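import Groth.Agent.AGF.K497.GM
import Groth.Agent.AGF.K495.ObsExt

/-!
# Geometric reductivity of subgroups

* `IsHomog N`: every nonzero left translation stable ideal of the ring of invariant functions contains `1`;
* `isHomog_of_normal`, `isHomog_of_prime`;
* `GeomRed.sub`: an observable subgroup with this property of a geometrically reductive group is geometrically
  reductive;
* `eq_one_of_geomRed`: a connected unipotent geometrically reductive group is trivial.
-/

set_option autoImplicit false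
set_option linter.unusedSectionVars false

universe u w w'

open TensorProduct Groth.Agent.Sga3B.RG Polynomial K497.Rat K495.ObsPt

namespace K101.GeomRedSub

section Homog

variable {K : Type u} [Field K] {A : Type u} [CommRing A] [HopfAlgebra K A]

/-- Every nonzero left translation stable ideal of the ring of invariant functions contains `1`. -/
def IsHomog (N : Set (Pt K A)) : Prop :=
  ∀ J : Submodule K A, J ≠ ⊥ → (∀ j ∈ J, j ∈ rInv N) → (∀ b ∈ rInv N, ∀ j ∈ J, b * j ∈ J) →
    (∀ g : Pt K A, ∀ j ∈ J, lTr g j ∈ J) → (1 : A) ∈ J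

variable [IsAlgClosed K] [Algebra.FiniteType K A] [IsReduced A]

/-- The case of a surjective map to the spectrum of the ring of invariants. -/
theorem isHomog_of_prime {N : Set (Pt K A)}
    (h : ∀ q : Ideal (rInv N), q.IsPrime → ∃ p : Ideal A, p.IsPrime ∧ p.comap (rInv N).val = q) :
    IsHomog N := by
  intro J hJ hJN hJm hJs
  by_contra h1
  let I : Ideal (rInv N) :=
    { carrier := {b | (b : A) ∈ J}
      add_mem' := fun ha hb => J.add_mem ha hb
      zero_mem' := J.zero_mem
      smul_mem' := fun b j hj => hJm b b.2 j hj }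
  have hI : I ≠ ⊤ := by
    intro htop
    have h2 : (1 : rInv N) ∈ I := by rw [htop]; trivial
    exact h1 h2
  obtain ⟨m, hm, hIm⟩ := Ideal.exists_le_maximal I hI
  obtain ⟨p, hp, hpm⟩ := h m hm.isPrime
  obtain ⟨f, hf⟩ := exists_algHom_of_ne_top (K := K) hp.ne_top
  let g : Pt K A := WithConv.toConv f
  have hg : ∀ j ∈ J, g j = 0 := by
    intro j hj
    apply hf
    have h2 : (⟨j, hJN j hj⟩ : rInv N) ∈ m := hIm hj
    rw [← hpm] at h2
    exact h2
  obtain ⟨j, hj, hj0⟩ := Submodule.exists_mem_ne_zero_of_ne_bot hJ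
  apply hj0
  apply eq_zero_of_forall_pt (K := K)
  intro x
  have h2 := hg _ (hJs (g * x⁻¹) j hj)
  rw [lTr_apply_pt] at h2
  have h3 : (g * x⁻¹)⁻¹ * g = x := by group
  rw [h3] at h2
  exact h2

/-- The case of a normal subgroup. -/
theorem isHomog_of_normal (N : Subgroup (Pt K A)) [hN : N.Normal] : IsHomog (N : Set (Pt K A)) := by
  classical
  intro J hJ hJN hJm hJs
  -- an element of `J` which does not vanish at `1`
  obtain ⟨j, hj, hj1⟩ : ∃ j ∈ J, (1 : Pt K A) j ≠ 0 := by
    obtain ⟨j, hj, hj0⟩ := Submodule.exists_mem_ne_zero_of_ne_bot hJ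
    obtain ⟨x, hx⟩ : ∃ x : Pt K A, x j ≠ 0 := by
      by_contra! hcon
      exact hj0 (eq_zero_of_forall_pt (K := K) hcon)
    refine ⟨lTr x⁻¹ j, hJs _ _ hj, ?_⟩
    rw [lTr_apply_pt, inv_inv, mul_one]
    exact hx
  obtain ⟨U, hU1, hU2, -, hU3⟩ := exists_stable (K := K) (Submodule.span K {j})
  let M : Submodule K A := U ⊓ J
  have hMfin : FiniteDimensional K M := Submodule.finiteDimensional_of_le inf_le_left
  have hM : ∀ g : Pt K A, M ≤ M.comap (lTrRep K A g) := fun g a ha => ⟨hU3 g ha.1, hJs g a ha.2⟩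
  let ρ : Representation K (Pt K A) M := (lTrRep K A).subrepresentation M hM
  have hρ : IsAlg ρ := (isAlg_lTrRep K A).subrepresentation M hM
  have hjM : j ∈ M := ⟨hU2 (Submodule.mem_span_singleton_self j), hj⟩
  let b := Module.finBasis K M
  choose c hc using fun i => hρ (b.coord i) ⟨j, hjM⟩
  have hexp : ∀ g x : Pt K A, x (lTr g j) = ∑ i, g (c i) * x (b i : A) := by
    intro g x
    have h1 : lTr g j = ((∑ i, b.repr (ρ g ⟨j, hjM⟩) i • b i : M) : A) := by
      rw [b.sum_repr]; rfl
    rw [h1, Submodule.coe_sum, Pt.apply_sum]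
    refine Finset.sum_congr rfl fun i _ => ?_
    rw [Submodule.coe_smul, Pt.apply_smul, ← hc]
    rfl
  have hsum : ∑ i, c i * (b i : A) = algebraMap K A ((1 : Pt K A) j) := by
    apply eq_of_forall_pt (K := K)
    intro x
    rw [Pt.apply_sum, Pt.apply_algebraMap]
    have h1 := hexp x x
    rw [lTr_apply_pt, inv_mul_cancel] at h1
    rw [h1]
    exact Finset.sum_congr rfl fun i _ => Pt.apply_mul _ _ _
  have hcN : ∀ i, c i ∈ rInv (N : Set (Pt K A)) := by
    intro i g s hs
    rw [← hc, ← hc]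
    congr 1
    apply Subtype.ext
    change lTr (g * s) j = lTr g j
    apply eq_of_forall_pt (K := K)
    intro x
    rw [lTr_apply_pt, lTr_apply_pt]
    have h1 : (g * s)⁻¹ * x = (g⁻¹ * x) * (x⁻¹ * g * s⁻¹ * (x⁻¹ * g)⁻¹) := by group
    rw [h1]
    exact hJN j hj _ _ (hN.conj_mem _ (N.inv_mem hs) _)
  have h1 : algebraMap K A ((1 : Pt K A) j) ∈ J := by
    rw [← hsum]
    exact J.sum_mem fun i _ => hJm _ (hcN i) _ (b i).2.2
  rw [Algebra.algebraMap_eq_smul_one] at h1
  have h2 := J.smul_mem ((1 : Pt K A) j)⁻¹ h1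
  rwa [smul_smul, inv_mul_cancel₀ hj1, one_smul] at h2

end Homog

section Sub

variable {K : Type u} [Field K] {A : Type u} [CommRing A] [HopfAlgebra K A]
  [IsAlgClosed K] [Algebra.FiniteType K A] [IsReduced A]
  {B : Type u} [CommRing B] [HopfAlgebra K B] [Algebra.FiniteType K B] [IsReduced B]

/-- Left translation of functions with values in `V`. -/
noncomputable def lam (V : Type u) [AddCommGroup V] [Module K V] : Representation K (Pt K A) (A ⊗[K] V) where
  toFun g := LinearMap.rTensor V (lTrRep K A g)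
  map_one' := by rw [map_one]; exact LinearMap.rTensor_id _ _
  map_mul' g h := by rw [map_mul]; exact LinearMap.rTensor_mul _ _ _

variable {V : Type u} [AddCommGroup V] [Module K V]

lemma ev_lam (g x : Pt K A) (t : A ⊗[K] V) : K497.Rat.ev V x (lam V g t) = K497.Rat.ev V (g⁻¹ * x) t := by
  induction t using TensorProduct.induction_on with
  | zero => simp
  | tmul a v =>
    change K497.Rat.ev V x (lTr g a ⊗ₜ[K] v) = _
    rw [ev_tmul, ev_tmul, lTr_apply_pt]
  | add x y hx hy => rw [map_add, map_add, map_add, hx, hy]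

lemma isRat_lam : IsRat (lam (K := K) (A := A) V) := by
  intro t
  induction t using TensorProduct.induction_on with
  | zero => exact (isPol_const 0).congr fun g => map_zero _
  | tmul a v => exact (IsPol.tmul (isRatA_lTrHom (K := K) (A := A) a) (isPol_const v)).congr fun g => rfl
  | add x y hx hy => exact (hx.add hy).congr fun g => map_add _ _ _

omit [IsAlgClosed K] [Algebra.FiniteType K A] [IsReduced A] in
lemma ev_smul (x : Pt K A) (a : A) (t : A ⊗[K] V) : K497.Rat.ev V x (a • t) = x a • K497.Rat.ev V x t := by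
  induction t using TensorProduct.induction_on with
  | zero => simp
  | tmul b v => rw [TensorProduct.smul_tmul', ev_tmul, ev_tmul, smul_smul, smul_eq_mul, Pt.apply_mul]
  | add x y hx hy => rw [smul_add, map_add, map_add, smul_add, hx, hy]

variable (V) in
/-- The equivariant functions. -/
def eqv (φ : A →ₐc[K] B) (ρ : Representation K (Pt K B) V) : Submodule K (A ⊗[K] V) where
  carrier := {t | ∀ (y : Pt K B) (x : Pt K A), ρ y (K497.Rat.ev V (x * Pt.map φ y) t) = K497.Rat.ev V x t}
  add_mem' hs ht y x := by rw [map_add, map_add, map_add, hs y x, ht y x]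
  zero_mem' y x := by rw [map_zero, map_zero, map_zero]
  smul_mem' c t ht y x := by rw [map_smul, map_smul, map_smul, ht y x]

/-- The pairing with a linear form. -/
noncomputable def pair (f : V →ₗ[K] K) : A ⊗[K] V →ₗ[K] A :=
  (TensorProduct.rid K A).toLinearMap ∘ₗ LinearMap.lTensor A f

omit [IsAlgClosed K] [Algebra.FiniteType K A] [IsReduced A] in
lemma apply_pair (f : V →ₗ[K] K) (x : Pt K A) (t : A ⊗[K] V) :
    x (pair f t) = f (K497.Rat.ev V x t) := by
  induction t using TensorProduct.induction_on with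
  | zero => rw [map_zero, map_zero, map_zero, map_zero]
  | tmul a v =>
    rw [ev_tmul, map_smul, smul_eq_mul]
    change x (TensorProduct.rid K A (a ⊗ₜ[K] f v)) = _
    rw [TensorProduct.rid_tmul, Pt.apply_smul, _root_.mul_comm]
  | add s t hs ht => rw [map_add, map_add, map_add, map_add, hs, ht]

/-- There is an equivariant function with `f (t x) = 1` everywhere. -/
theorem exists_eqv [FiniteDimensional K V] {φ : A →ₐc[K] B} (hφ : Function.Surjective φ)
    (hobs : IsObs (Pt.map (K := K) φ).range) (hhom : IsHomog ((Pt.map (K := K) φ).range : Set (Pt K A)))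
    {ρ : Representation K (Pt K B) V} (hρ : IsAlg ρ) {f : V →ₗ[K] K} (hf : ∀ y v, f (ρ y v) = f v)
    (hf0 : f ≠ 0) : ∃ t ∈ eqv V φ ρ, pair f t = (1 : A) := by
  classical
  let J : Submodule K A := (eqv V φ ρ).map (pair f)
  suffices h : (1 : A) ∈ J by
    obtain ⟨t, ht, h1⟩ := h
    exact ⟨t, ht, h1⟩
  have hmem : ∀ {t : A ⊗[K] V}, t ∈ eqv V φ ρ ↔
    ∀ (y : Pt K B) (x : Pt K A), ρ y (K497.Rat.ev V (x * Pt.map φ y) t) = K497.Rat.ev V x t := Iff.rfl
  apply hhom
  · -- nonzero
    have hρd : IsAlg ρ.dual := hρ.dual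
    obtain ⟨W, _, _, _, τ, ι, hτ, hι, hιe⟩ := K495.ObsExt.exists_ext hφ hobs.invExt hρd
    have h1 : ι f ≠ 0 := fun h0 => hf0 (hι (h0.trans (map_zero ι).symm))
    obtain ⟨w', hw'⟩ := Module.Projective.exists_dual_eq_one K h1
    let b := Module.finBasis K V
    choose c hc using fun i => hτ w' (ι (b.coord i))
    let t : A ⊗[K] V := ∑ i, c i ⊗ₜ[K] b i
    have ht : ∀ (x : Pt K A) (ξ : Module.Dual K V), ξ (K497.Rat.ev V x t) = w' (τ x (ι ξ)) := by
      intro x ξ
      have h2 : ξ = ∑ i, ξ (b i) • b.coord i := by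
        apply b.ext
        intro j
        simp only [LinearMap.sum_apply, LinearMap.smul_apply, smul_eq_mul, Module.Basis.coord_apply,
          Module.Basis.repr_self]
        rw [Finset.sum_eq_single j]
        · rw [Finsupp.single_eq_same, _root_.mul_one]
        · intro i _ hij
          rw [Finsupp.single_eq_of_ne hij, mul_zero]
        · intro h; exact absurd (Finset.mem_univ _) h
      conv_rhs => rw [h2]
      simp only [t, map_sum, map_smul, ev_tmul, smul_eq_mul]
      refine Finset.sum_congr rfl fun i _ => ?_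
      rw [hc, _root_.mul_comm]
    have htmem : t ∈ eqv V φ ρ := by
      intro y x
      rw [← sub_eq_zero, ← Module.forall_dual_apply_eq_zero_iff K]
      intro ξ
      rw [map_sub, sub_eq_zero, ht]
      have h2 : ξ (ρ y (K497.Rat.ev V (x * Pt.map φ y) t)) =
          (ρ.dual y⁻¹ ξ) (K497.Rat.ev V (x * Pt.map φ y) t) := by
        rw [Representation.dual_apply, Module.Dual.transpose_apply, inv_inv, LinearMap.comp_apply]
      rw [h2, ht, hιe, map_mul, Module.End.mul_apply]
      congr 2
      rw [← Module.End.mul_apply, ← map_mul, ← map_mul, mul_inv_cancel, map_one, map_one,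
        Module.End.one_apply]
    intro hbot
    have h2 : pair f t ∈ J := ⟨t, htmem, rfl⟩
    rw [hbot, Submodule.mem_bot] at h2
    have h3 := apply_pair f 1 t
    rw [h2, Pt.apply_zero, ht, map_one, Module.End.one_apply, hw'] at h3
    exact zero_ne_one h3
  · rintro _ ⟨t, ht, rfl⟩ x _ ⟨y, rfl⟩
    have h5 : (Pt.map φ) y = Pt.map φ y := rfl
    rw [apply_pair, apply_pair, ← hf y, h5, ht y x]
  · rintro b hb _ ⟨t, ht, rfl⟩
    refine ⟨b • t, ?_, ?_⟩
    · intro y x
      rw [ev_smul, ev_smul, map_smul, ht y x]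
      congr 1
      exact hb x _ ⟨y, rfl⟩
    · apply eq_of_forall_pt (K := K)
      intro x
      rw [apply_pair, ev_smul, map_smul, smul_eq_mul, Pt.apply_mul, apply_pair]
  · rintro g _ ⟨t, ht, rfl⟩
    refine ⟨lam V g t, ?_, ?_⟩
    · intro y x
      rw [ev_lam, ev_lam, ← _root_.mul_assoc]
      exact ht y _
    · apply eq_of_forall_pt (K := K)
      intro x
      rw [apply_pair, ev_lam, lTr_apply_pt, apply_pair]

/-- The transfer of invariants of the symmetric algebra. -/
theorem sub_aux (hG : GeomRed K A) {φ : A →ₐc[K] B} {ρ : Representation K (Pt K B) V}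
    {f : V →ₗ[K] K} {W : Type u} [AddCommGroup W] [Module K W] [FiniteDimensional K W]
    (τ : Representation K (Pt K A) W) (hτ : IsAlg τ) (κ : W →ₗ[K] A ⊗[K] V)
    (hκ : ∀ g w, κ (τ g w) = lam V g (κ w)) (hκe : ∀ w, κ w ∈ eqv V φ ρ) (ψ : W →ₗ[K] K)
    (hψ : ∀ (w : W) (x : Pt K A), f (K497.Rat.ev V x (κ w)) = ψ w) (hψ0 : ψ ≠ 0) :
    ∃ n > 0, ∃ F : SymmetricAlgebra K V, (∀ g, symAct ρ g F = F) ∧ symTo f F = X ^ n := by
  obtain ⟨n, hn, S, hS, hSX⟩ := hG W τ hτ ψ (fun g w => by
    rw [← hψ _ 1, ← hψ w (g⁻¹ * 1), hκ, ev_lam]) hψ0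
  let Θ (x : Pt K A) : SymmetricAlgebra K W →ₐ[K] SymmetricAlgebra K V :=
    SymmetricAlgebra.lift (SymmetricAlgebra.ι K V ∘ₗ K497.Rat.ev V x ∘ₗ κ)
  have hΘι : ∀ x w, Θ x (SymmetricAlgebra.ι K W w) =
      SymmetricAlgebra.ι K V (K497.Rat.ev V x (κ w)) := by
    intro x w
    simp [Θ]
  have h1 : ∀ x g, (Θ x).comp (symAct τ g) = Θ (g⁻¹ * x) := by
    intro x g
    apply SymmetricAlgebra.algHom_ext
    ext w : 1
    change Θ x (symAct τ g (SymmetricAlgebra.ι K W w)) = Θ (g⁻¹ * x) (SymmetricAlgebra.ι K W w)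
    rw [symAct_ι, hΘι, hΘι, hκ, ev_lam]
  have h2 : ∀ x, Θ x S = Θ 1 S := by
    intro x
    have h3 := DFunLike.congr_fun (h1 x x) S
    rw [AlgHom.comp_apply, hS x, inv_mul_cancel] at h3
    exact h3
  refine ⟨n, hn, Θ 1 S, fun y => ?_, ?_⟩
  · have h3 : (symAct ρ y).comp (Θ (1 * Pt.map φ y)) = Θ 1 := by
      apply SymmetricAlgebra.algHom_ext
      ext w : 1
      change symAct ρ y (Θ (1 * Pt.map φ y) (SymmetricAlgebra.ι K W w)) = Θ 1 (SymmetricAlgebra.ι K W w)
      rw [hΘι, hΘι, symAct_ι]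
      congr 1
      exact hκe w y 1
    have h4 := DFunLike.congr_fun h3 S
    rw [AlgHom.comp_apply, h2] at h4
    exact h4
  · have h3 : (symTo f).comp (Θ 1) = symTo ψ := by
      apply SymmetricAlgebra.algHom_ext
      ext w : 1
      change symTo f (Θ 1 (SymmetricAlgebra.ι K W w)) = symTo ψ (SymmetricAlgebra.ι K W w)
      rw [hΘι, symTo_ι, symTo_ι, hψ]
    have h4 := DFunLike.congr_fun h3 S
    rw [AlgHom.comp_apply, hSX] at h4
    exact h4

/-- **Subgroups of geometrically reductive groups.** -/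
theorem GeomRed.sub (hG : GeomRed K A) {φ : A →ₐc[K] B} (hφ : Function.Surjective φ)
    (hobs : IsObs (Pt.map (K := K) φ).range) (hhom : IsHomog ((Pt.map (K := K) φ).range : Set (Pt K A))) :
    GeomRed K B := by
  classical
  intro V _ _ _ ρ hρ f hf hf0
  obtain ⟨t, ht, ht1⟩ := exists_eqv hφ hobs hhom hρ hf hf0
  have hlam := isRat_lam (K := K) (A := A) (V := V)
  let W : Submodule K (A ⊗[K] V) := orb (lam (K := K) (A := A) V) {t}
  have hWst : ∀ g : Pt K A, W ≤ W.comap (lam V g) := orb_stable _ _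
  have hWfin : FiniteDimensional K W := hlam.finite_orb (Set.finite_singleton t)
  have hWeqv : W ≤ eqv V φ ρ := by
    refine orb_le _ (Set.singleton_subset_iff.2 ht) fun g s hs y x => ?_
    rw [ev_lam, ev_lam, ← _root_.mul_assoc]
    exact hs y _
  have hψ : ∀ w ∈ W, ∀ x : Pt K A, f (K497.Rat.ev V x w) = f (K497.Rat.ev V 1 w) := by
    intro w hw x
    induction hw using Submodule.span_induction with
    | mem w hw =>
      obtain ⟨g, s, rfl, rfl⟩ := hw
      rw [ev_lam, ev_lam, ← apply_pair, ← apply_pair, ht1, Pt.apply_one, Pt.apply_one]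
    | zero => simp only [map_zero]
    | add a b _ _ ha hb => rw [map_add, map_add, map_add, map_add, ha, hb]
    | smul c a _ ha => rw [map_smul, map_smul, map_smul, map_smul, ha]
  have htW : t ∈ W := subset_orb _ _ rfl
  let ψ : W →ₗ[K] K := f ∘ₗ K497.Rat.ev V 1 ∘ₗ W.subtype
  have hψ0 : ψ ≠ 0 := by
    intro h0
    have h1 := LinearMap.congr_fun h0 ⟨t, htW⟩
    change f (K497.Rat.ev V 1 t) = 0 at h1
    rw [← apply_pair, ht1, Pt.apply_one] at h1
    exact one_ne_zero h1
  exact sub_aux (φ := φ) hG (W := W) ((lam (K := K) (A := A) V).subrepresentation W hWst)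
    (hlam.subrepresentation W hWst).isAlg W.subtype (fun g w => rfl) (fun w : W => hWeqv w.2) ψ
    (fun (w : W) x => hψ w.1 w.2 x) hψ0

end Sub

end K101.GeomRedSub
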