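import Mathlib.Algebra.Module.PID
import Mathlib.Algebra.Polynomial.Module.AEval
import Mathlib.RingTheory.AdjoinRoot
import Mathlib.LinearAlgebra.DFinsupp
import Mathlib.Tactic

/-! A Jordan basis for a nilpotent endomorphism of a finite dimensional space, and the associated
`sl₂`-triple (Jacobson–Morozov for `gl(V)`). -/

set_option autoImplicit false
set_option linter.unusedSectionVars false

noncomputable section

namespace K101.JordanNil

open Polynomial Module

variable {k V : Type*} [Field k] [AddCommGroup V] [Module k V] [FiniteDimensional k V]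

/-- Jordan basis of a nilpotent endomorphism. -/
theorem exists_jordan (T : Module.End k V) (hT : IsNilpotent T) :
    ∃ (d : ℕ) (K : Fin d → ℕ) (b : Basis (Σ i : Fin d, Fin (K i)) k V),
      ∀ (i : Fin d) (j : Fin (K i)), T (b ⟨i, j⟩) = if hj : (j : ℕ) + 1 < K i then b ⟨i, ⟨j + 1, hj⟩⟩ else 0 := by
  classical
  have htor : Module.IsTorsion' (AEval' T) (Submonoid.powers (X : k[X])) := by
    obtain ⟨N, hN⟩ := hT
    intro m
    refine ⟨⟨X ^ N, N, rfl⟩, ?_⟩
    obtain ⟨v, rfl⟩ := (AEval'.of T).surjective m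
    change (X ^ N : k[X]) • AEval'.of T v = 0
    rw [AEval'.X_pow_smul_of, hN, zero_smul, map_zero]
  obtain ⟨d, K, ⟨φ⟩⟩ := Module.torsion_by_prime_power_decomposition (Polynomial.irreducible_X (R := k)) htor
  let inst : ∀ i : Fin d, Module k[X] (AdjoinRoot ((X : k[X]) ^ (K i))) := fun i =>
    inferInstanceAs (Module k[X] (k[X] ⧸ Submodule.span k[X] {(X : k[X]) ^ (K i)}))
  have hmk : ∀ (i : Fin d) (p q : k[X]), p • (AdjoinRoot.mk ((X : k[X]) ^ (K i)) q) =
      AdjoinRoot.mk ((X : k[X]) ^ (K i)) (p * q) := fun i p q => rfl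
  let ψ : AEval' T ≃ₗ[k[X]] (Π₀ i : Fin d, AdjoinRoot ((X : k[X]) ^ (K i))) := φ
  have ψk : ∀ (c : k) (x : AEval' T), ψ (c • x) = c • ψ x := by
    intro c x
    have h1 : c • x = (C c : k[X]) • x := (AEval.C_smul T c x).symm
    rw [h1, map_smul]
    apply DFinsupp.ext
    intro i
    rw [DFinsupp.smul_apply, DFinsupp.smul_apply]
    generalize (ψ x) i = y
    induction y using AdjoinRoot.induction_on with
    | ih p =>
      change AdjoinRoot.mk _ (C c * p) = _
      rw [map_mul]
      rw [Algebra.smul_def]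
      rfl
  let χ : V ≃ₗ[k] (Π₀ i : Fin d, AdjoinRoot ((X : k[X]) ^ (K i))) :=
    { toFun := fun v => ψ (AEval'.of T v)
      map_add' := fun v w => by rw [map_add, map_add]
      map_smul' := fun c v => by rw [map_smul, ψk]; rfl
      invFun := fun x => (AEval'.of T).symm (ψ.symm x)
      left_inv := fun v => by simp
      right_inv := fun x => by simp }
  have hχ : ∀ v, χ (T v) = (X : k[X]) • χ v := by
    intro v
    change ψ (AEval'.of T (T v)) = (X : k[X]) • ψ (AEval'.of T v)
    rw [← AEval'.X_smul_of, map_smul]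
  let B : ∀ i : Fin d, Basis (Fin (K i)) k (AdjoinRoot ((X : k[X]) ^ (K i))) := fun i =>
    (AdjoinRoot.powerBasis' (monic_X_pow (K i))).basis.reindex (finCongr (natDegree_X_pow (K i)))
  have hB : ∀ (i : Fin d) (j : Fin (K i)), B i j = (AdjoinRoot.root ((X : k[X]) ^ (K i))) ^ (j : ℕ) := by
    intro i j
    simp only [B, Basis.reindex_apply, PowerBasis.coe_basis]
    rfl
  let b0 : Basis (Σ i : Fin d, Fin (K i)) k (Π₀ i : Fin d, AdjoinRoot ((X : k[X]) ^ (K i))) := DFinsupp.basis B
  have hb0 : ∀ (i : Fin d) (j : Fin (K i)), b0 ⟨i, j⟩ =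
      DFinsupp.single i ((AdjoinRoot.root ((X : k[X]) ^ (K i))) ^ (j : ℕ)) := by
    intro i j
    rw [← hB]
    apply b0.repr.injective
    rw [Basis.repr_self]
    ext ⟨i', j'⟩
    change _ = (B i').repr ((DFinsupp.single i (B i j) : Π₀ i : Fin d, AdjoinRoot ((X : k[X]) ^ (K i))) i') j'
    by_cases hi : i = i'
    · subst hi
      rw [DFinsupp.single_eq_same, Basis.repr_self]
      by_cases hj : j = j'
      · subst hj; simp
      · rw [Finsupp.single_eq_of_ne, Finsupp.single_eq_of_ne]
        · exact fun h => hj h.symm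
        · intro h; apply hj; simpa using h.symm
    · rw [DFinsupp.single_eq_of_ne (fun h => hi h.symm), map_zero, Finsupp.zero_apply, Finsupp.single_eq_of_ne]
      intro h
      apply hi
      have := congrArg Sigma.fst h
      exact this.symm
  refine ⟨d, K, b0.map χ.symm, fun i j => ?_⟩
  apply χ.injective
  rw [hχ, Basis.map_apply, LinearEquiv.apply_symm_apply, hb0]
  have hX : (X : k[X]) • (DFinsupp.single i ((AdjoinRoot.root ((X : k[X]) ^ (K i))) ^ (j : ℕ)) :
      Π₀ i : Fin d, AdjoinRoot ((X : k[X]) ^ (K i))) =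
      DFinsupp.single i ((AdjoinRoot.root ((X : k[X]) ^ (K i))) ^ ((j : ℕ) + 1)) := by
    rw [← DFinsupp.single_smul]
    congr 1
    rw [pow_succ']
    rfl
  rw [hX]
  split_ifs with hj
  · rw [Basis.map_apply, LinearEquiv.apply_symm_apply, hb0]
  · rw [map_zero]
    have h1 : (AdjoinRoot.root ((X : k[X]) ^ (K i))) ^ ((j : ℕ) + 1) = 0 := by
      have h2 : (j : ℕ) + 1 = K i := by have := j.2; omega
      rw [h2, AdjoinRoot.root, ← map_pow]
      exact AdjoinRoot.mk_self
    rw [h1, DFinsupp.single_zero]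

end K101.JordanNil
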