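import Groth.Agent.AGF.K101.PolyTriple
import Mathlib.Algebra.MvPolynomial.Rename
import Mathlib.Data.Nat.Factorial.Basic

/-! The kernel of the raising operator of a linear `sl₂`-action on a polynomial ring is finitely generated:
transfer to the invariants of the polynomial ring in two more variables. -/

set_option autoImplicit false
set_option linter.unusedSectionVars false

namespace K101.KerFG

open MvPolynomial Module K101.SlTwo K101.PolyTriple

variable {k : Type*} [Field k] [CharZero k] {ι : Type*} [Finite ι]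

variable (e f h : Derivation k (MvPolynomial ι k) (MvPolynomial ι k))

/-- the first new variable -/
noncomputable abbrev vx : MvPolynomial (ι ⊕ Bool) k := X (Sum.inr false)
/-- the second new variable -/
noncomputable abbrev vy : MvPolynomial (ι ⊕ Bool) k := X (Sum.inr true)
/-- inclusion -/
noncomputable abbrev inc : MvPolynomial ι k →ₐ[k] MvPolynomial (ι ⊕ Bool) k := rename Sum.inl

/-- raising operator -/
noncomputable def e' : Derivation k (MvPolynomial (ι ⊕ Bool) k) (MvPolynomial (ι ⊕ Bool) k) :=
  mkDerivation k (Sum.elim (fun i => inc (e (X i))) (fun b => if b then vx else 0))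
/-- lowering operator -/
noncomputable def f' : Derivation k (MvPolynomial (ι ⊕ Bool) k) (MvPolynomial (ι ⊕ Bool) k) :=
  mkDerivation k (Sum.elim (fun i => inc (f (X i))) (fun b => if b then 0 else vy))
/-- weight operator -/
noncomputable def h' : Derivation k (MvPolynomial (ι ⊕ Bool) k) (MvPolynomial (ι ⊕ Bool) k) :=
  mkDerivation k (Sum.elim (fun i => inc (h (X i))) (fun b => if b then -vy else vx))

lemma e'_inl (i : ι) : e' e (X (Sum.inl i)) = inc (e (X i)) := by rw [e', mkDerivation_X]; rfl
lemma f'_inl (i : ι) : f' f (X (Sum.inl i)) = inc (f (X i)) := by rw [f', mkDerivation_X]; rfl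
lemma h'_inl (i : ι) : h' h (X (Sum.inl i)) = inc (h (X i)) := by rw [h', mkDerivation_X]; rfl
lemma e'_x : e' e vx = 0 := by rw [vx, e', mkDerivation_X]; rfl
lemma e'_y : e' e vy = vx := by rw [vy, e', mkDerivation_X]; rfl
lemma f'_x : f' f vx = vy := by rw [vx, f', mkDerivation_X]; rfl
lemma f'_y : f' f vy = 0 := by rw [vy, f', mkDerivation_X]; rfl
lemma h'_x : h' h vx = vx := by rw [vx, h', mkDerivation_X]; rfl
lemma h'_y : h' h vy = -vy := by rw [vy, h', mkDerivation_X]; rfl

lemma inc_of (D : Derivation k (MvPolynomial ι k) (MvPolynomial ι k))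
    (D' : Derivation k (MvPolynomial (ι ⊕ Bool) k) (MvPolynomial (ι ⊕ Bool) k))
    (hD : ∀ i, D' (X (Sum.inl i)) = inc (D (X i))) (p : MvPolynomial ι k) : D' (inc p) = inc (D p) := by
  induction p using MvPolynomial.induction_on with
  | C a =>
    rw [← algebraMap_eq, Derivation.map_algebraMap, map_zero, AlgHom.commutes, Derivation.map_algebraMap]
  | add p q hp hq => rw [map_add, map_add, map_add, map_add, hp, hq]
  | mul_X p i hp =>
    rw [map_mul, Derivation.leibniz, Derivation.leibniz, hp]
    simp only [smul_eq_mul, map_add, map_mul]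
    congr 2
    rw [inc, rename_X, hD]

lemma e'_inc (p : MvPolynomial ι k) : e' e (inc p) = inc (e p) := inc_of e (e' e) (e'_inl e) p
lemma f'_inc (p : MvPolynomial ι k) : f' f (inc p) = inc (f p) := inc_of f (f' f) (f'_inl f) p
lemma h'_inc (p : MvPolynomial ι k) : h' h (inc p) = inc (h p) := inc_of h (h' h) (h'_inl h) p

variable {e f h} {wt : ι → ℤ}

lemma inc_hom {p : MvPolynomial ι k} {n : ℕ} (hp : p.IsHomogeneous n) : (inc p).IsHomogeneous n :=
  hp.rename_isHomogeneous

lemma ptriple' (T : PTriple e f h wt) :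
    PTriple (e' e) (f' f) (h' h) (Sum.elim wt (fun b => if b then -1 else 1)) where
  ef i := by
    rcases i with i | b
    · rw [e'_inl, f'_inl, h'_inl, e'_inc, f'_inc, ← map_sub, T.ef]
    · cases b
      · change e' e (f' f vx) - f' f (e' e vx) = h' h vx
        rw [e'_x, f'_x, h'_x, e'_y, map_zero, sub_zero]
      · change e' e (f' f vy) - f' f (e' e vy) = h' h vy
        rw [e'_y, f'_y, h'_y, f'_x, map_zero, zero_sub]
  he i := by
    rcases i with i | b
    · rw [e'_inl, h'_inl, e'_inc, h'_inc, ← map_sub, T.he, map_nsmul]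
    · cases b
      · change h' h (e' e vx) - e' e (h' h vx) = 2 • e' e vx
        rw [e'_x, h'_x, e'_x, map_zero]; simp
      · change h' h (e' e vy) - e' e (h' h vy) = 2 • e' e vy
        rw [e'_y, h'_y, map_neg, e'_y, h'_x]; module
  hf i := by
    rcases i with i | b
    · rw [f'_inl, h'_inl, f'_inc, h'_inc, ← map_sub, T.hf, map_neg, map_nsmul]
    · cases b
      · change h' h (f' f vx) - f' f (h' h vx) = -(2 • f' f vx)
        rw [f'_x, h'_x, h'_y, f'_x]; module
      · change h' h (f' f vy) - f' f (h' h vy) = -(2 • f' f vy)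
        rw [f'_y, h'_y, map_neg, f'_y, map_zero]; simp
  hX i := by
    rcases i with i | b
    · rw [h'_inl, T.hX, map_smul, inc, rename_X]; rfl
    · cases b
      · change h' h vx = _
        rw [h'_x]; simp
      · change h' h vy = _
        rw [h'_y]; simp
  e_hom i := by
    rcases i with i | b
    · rw [e'_inl]; exact inc_hom (T.e_hom i)
    · cases b
      · change (e' e vx).IsHomogeneous 1
        rw [e'_x]; exact isHomogeneous_zero _ _ _
      · change (e' e vy).IsHomogeneous 1
        rw [e'_y]; exact isHomogeneous_X _ _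
  f_hom i := by
    rcases i with i | b
    · rw [f'_inl]; exact inc_hom (T.f_hom i)
    · cases b
      · change (f' f vx).IsHomogeneous 1
        rw [f'_x]; exact isHomogeneous_X _ _
      · change (f' f vy).IsHomogeneous 1
        rw [f'_y]; exact isHomogeneous_zero _ _ _

/-- Evaluation at `x = 0`, `y = 1`. -/
noncomputable def ev : MvPolynomial (ι ⊕ Bool) k →ₐ[k] MvPolynomial ι k :=
  aeval (Sum.elim X (fun b => if b then 1 else 0))

lemma ev_inc (p : MvPolynomial ι k) : ev (inc p) = p := by
  rw [ev, inc, aeval_rename]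
  have : (Sum.elim X (fun b => if b = true then (1 : MvPolynomial ι k) else 0) ∘ Sum.inl) = X := rfl
  rw [this, aeval_X_left_apply]

lemma ev_x : ev (vx : MvPolynomial (ι ⊕ Bool) k) = 0 := by rw [ev, vx, aeval_X]; rfl
lemma ev_y : ev (vy : MvPolynomial (ι ⊕ Bool) k) = 1 := by rw [ev, vy, aeval_X]; rfl

lemma ev_e' (F : MvPolynomial (ι ⊕ Bool) k) : ev (e' e F) = e (ev F) := by
  induction F using MvPolynomial.induction_on with
  | C a =>
    rw [← algebraMap_eq, Derivation.map_algebraMap, map_zero, AlgHom.commutes, Derivation.map_algebraMap]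
  | add p q hp hq => rw [map_add, map_add, map_add, map_add, hp, hq]
  | mul_X p i hp =>
    rw [Derivation.leibniz, map_mul ev, Derivation.leibniz]
    simp only [smul_eq_mul, map_add, map_mul, hp]
    congr 2
    rcases i with i | b
    · have h1 : (X (Sum.inl i) : MvPolynomial (ι ⊕ Bool) k) = inc (X i) := by rw [inc, rename_X]
      rw [h1, e'_inc, ev_inc, ev_inc]
    · cases b
      · change ev (e' e vx) = e (ev vx)
        rw [e'_x, ev_x, map_zero, map_zero]
      · change ev (e' e vy) = e (ev vy)
        rw [e'_y, ev_x, ev_y, Derivation.map_one_eq_zero]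

/-- coefficients `(-1)^i / i!` -/
noncomputable def co (k : Type*) [Field k] (i : ℕ) : k := (-1) ^ i / (i.factorial : k)

lemma co_succ (i : ℕ) : co k (i + 1) * (i + 1) = - co k i := by
  have h1 : ((i + 1 : ℕ) : k) ≠ 0 := Nat.cast_ne_zero.mpr (Nat.succ_ne_zero i)
  have h2 : (i.factorial : k) ≠ 0 := Nat.cast_ne_zero.mpr (Nat.factorial_ne_zero i)
  rw [co, co, Nat.factorial_succ]
  push_cast at h1 ⊢
  field_simp
  ring

/-- iterates of `f` -/
noncomputable def itf (f : Derivation k (MvPolynomial ι k) (MvPolynomial ι k)) (r : MvPolynomial ι k) (i : ℕ) :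
    MvPolynomial ι k := ((f : MvPolynomial ι k →ₗ[k] MvPolynomial ι k) ^ i) r

lemma itf_zero (r : MvPolynomial ι k) : itf f r 0 = r := rfl
lemma itf_succ (r : MvPolynomial ι k) (i : ℕ) : f (itf f r i) = itf f r (i + 1) := by
  rw [itf, itf, pow_succ', Module.End.mul_apply]; rfl

/-- The invariant attached to a highest weight vector of weight `b`. -/
noncomputable def FF (f : Derivation k (MvPolynomial ι k) (MvPolynomial ι k)) (r : MvPolynomial ι k) (b : ℕ) :
    MvPolynomial (ι ⊕ Bool) k :=
  ∑ i ∈ Finset.range (b + 1), co k i • (inc (itf f r i) * vx ^ i * vy ^ (b - i))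

lemma ev_FF (r : MvPolynomial ι k) (b : ℕ) : ev (FF f r b) = r := by
  rw [FF, map_sum, Finset.sum_eq_single 0]
  · rw [map_smul, map_mul, map_mul, map_pow, map_pow, ev_inc, ev_x, ev_y, itf_zero]
    simp [co]
  · intro i _ hi
    rw [map_smul, map_mul, map_mul, map_pow, map_pow, ev_x, zero_pow hi, mul_zero, zero_mul, smul_zero]
  · intro h; simp at h

lemma e'_FF {r : MvPolynomial ι k} {b : ℕ}
    (h0 : e r = 0) (h1 : ∀ m : ℕ, e (itf f r (m + 1)) = ((m + 1 : k) * ((b : k) - m)) • itf f r m) :
    e' e (FF f r b) = 0 := by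
  have key : ∀ m ≤ b, e' e (∑ i ∈ Finset.range (m + 1), co k i • (inc (itf f r i) * vx ^ i * vy ^ (b - i))) =
      (co k m * ((b : k) - m)) • (inc (itf f r m) * vx ^ (m + 1) * vy ^ (b - m - 1)) := by
    have hterm : ∀ m ≤ b, e' e (inc (itf f r m) * vx ^ m * vy ^ (b - m)) =
        inc (e (itf f r m)) * vx ^ m * vy ^ (b - m) +
          ((b : k) - m) • (inc (itf f r m) * vx ^ (m + 1) * vy ^ (b - m - 1)) := by
      intro m hm
      rw [Derivation.leibniz, Derivation.leibniz, Derivation.leibniz_pow, Derivation.leibniz_pow, e'_x, e'_y, e'_inc]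
      have h3 : ((b : k) - m) = ((b - m : ℕ) : k) := by rw [Nat.cast_sub hm]
      rw [h3, Nat.cast_smul_eq_nsmul]
      simp only [smul_eq_mul, smul_zero, mul_zero, zero_add, nsmul_eq_mul]
      ring
    intro m
    induction m with
    | zero =>
      intro _
      rw [zero_add, Finset.sum_range_one, Derivation.map_smul, hterm 0 (Nat.zero_le _), itf_zero, h0, map_zero,
        zero_mul, zero_mul, zero_add, smul_smul]
    | succ m ih =>
      intro hm
      rw [Finset.sum_range_succ, map_add, ih (by omega), Derivation.map_smul, hterm (m + 1) hm, h1 m,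
        map_smul, smul_add, smul_smul]
      have h4 : b - m - 1 = b - (m + 1) := by omega
      rw [h4]
      simp only [smul_mul_assoc, smul_smul]
      rw [← add_assoc, ← add_smul]
      have h5 : co k m * ((b : k) - m) + co k (m + 1) * ((m + 1 : k) * ((b : k) - m)) = 0 := by
        rw [← mul_assoc, co_succ]; ring
      rw [h5, zero_smul, zero_add]
  rw [FF, key b le_rfl, sub_self, mul_zero, zero_smul]

lemma f'_FF {r : MvPolynomial ι k} {b : ℕ} (h0 : itf f r (b + 1) = 0) : f' f (FF f r b) = 0 := by
  have key : ∀ m ≤ b, f' f (∑ i ∈ Finset.range (m + 1), co k i • (inc (itf f r i) * vx ^ i * vy ^ (b - i))) =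
      co k m • (inc (itf f r (m + 1)) * vx ^ m * vy ^ (b - m)) := by
    have hterm : ∀ m, f' f (inc (itf f r m) * vx ^ m * vy ^ (b - m)) =
        inc (itf f r (m + 1)) * vx ^ m * vy ^ (b - m) +
          (m : k) • (inc (itf f r m) * vx ^ (m - 1) * (vy ^ (b - m) * vy)) := by
      intro m
      rw [Derivation.leibniz, Derivation.leibniz, Derivation.leibniz_pow, Derivation.leibniz_pow, f'_x, f'_y, f'_inc,
        itf_succ, Nat.cast_smul_eq_nsmul]
      simp only [smul_eq_mul, smul_zero, mul_zero, zero_add, nsmul_eq_mul]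
      ring
    intro m
    induction m with
    | zero =>
      intro _
      rw [zero_add, Finset.sum_range_one, Derivation.map_smul, hterm 0, Nat.cast_zero, zero_smul, add_zero]
    | succ m ih =>
      intro hm
      rw [Finset.sum_range_succ, map_add, ih (by omega), Derivation.map_smul, hterm (m + 1), smul_add,
        smul_smul]
      have h4 : vy ^ (b - (m + 1)) * (vy : MvPolynomial (ι ⊕ Bool) k) = vy ^ (b - m) := by
        rw [← pow_succ]; congr 1; omega
      rw [h4, Nat.add_sub_cancel, add_left_comm, ← add_smul]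
      have h5 : co k m + co k (m + 1) * ((m + 1 : ℕ) : k) = 0 := by
        push_cast; rw [co_succ]; ring
      rw [h5, zero_smul, add_zero]
  rw [FF, key b le_rfl, h0, map_zero, zero_mul, zero_mul, smul_zero]

/-- Elements of `ker e` come from invariants in two more variables. -/
theorem PTriple.exists_inv (T : PTriple e f h wt) {r : MvPolynomial ι k} (hr : e r = 0) :
    ∃ F ∈ inv (e' e) (f' f), ev F = r := by
  classical
  suffices hs : r ∈ (inv (e' e) (f' f)).map ev by
    obtain ⟨F, hF, h⟩ := hs
    exact ⟨F, hF, h⟩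
  rw [← sum_homogeneousComponent r]
  refine Subalgebra.sum_mem _ fun n _ => ?_
  have hrn : e (homogeneousComponent n r) = 0 := by
    rw [map_homogeneousComponent e T.e_hom, hr, map_zero]
  set x : homogeneousSubmodule ι k n := ⟨homogeneousComponent n r, homogeneousComponent_mem n r⟩ with hx
  have T' := T.triple n
  have hex : (res e T.e_hom n) x = 0 := Subtype.ext hrn
  have hmem : x ∈ ⨆ a : ℤ, Module.End.eigenspace (res h T.h_hom n) (a : k) := by rw [T'.diag]; trivial
  obtain ⟨y, hy, hyx⟩ := (Submodule.mem_iSup_iff_exists_finsupp _ _).mp hmem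
  have hz : ∀ a ∈ y.support, (res e T.e_hom n) (y a) = 0 := by
    have hind : iSupIndep (fun a : ℤ => Module.End.eigenspace (res h T.h_hom n) ((a + 2 : ℤ) : k)) :=
      (Module.End.eigenspaces_iSupIndep (res h T.h_hom n)).comp (f := fun a : ℤ => ((a + 2 : ℤ) : k))
        (fun a b hab => by simpa using hab)
    rw [iSupIndep_iff_finsetSum_eq_zero_imp_eq_zero] at hind
    refine hind y.support (fun a => (res e T.e_hom n) (y a)) ?_ ?_
    · intro a _
      rw [Module.End.mem_eigenspace_iff]
      exact T'.e_mem (Module.End.mem_eigenspace_iff.mp (hy a))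
    · rw [← map_sum]
      have : ∑ a ∈ y.support, y a = x := hyx
      rw [this, hex]
  have hsum : (homogeneousComponent n r) = ∑ a ∈ y.support, ((y a : homogeneousSubmodule ι k n) : MvPolynomial ι k) := by
    have : ∑ a ∈ y.support, y a = x := hyx
    rw [← AddSubmonoidClass.coe_finsetSum, this]
  rw [hsum]
  refine Subalgebra.sum_mem _ fun a ha => ?_
  have hya := Module.End.mem_eigenspace_iff.mp (hy a)
  by_cases h0 : y a = 0
  · rw [h0]; exact Subalgebra.zero_mem _
  obtain ⟨b, hb, hfb⟩ := T'.highest hya (hz a ha) h0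
  -- iterates of f on the homogeneous piece
  have hit : ∀ i : ℕ, ((((res f T.f_hom n) ^ i) (y a) : homogeneousSubmodule ι k n) : MvPolynomial ι k) =
      itf f (y a) i := by
    intro i
    induction i with
    | zero => rfl
    | succ i ih => rw [pow_succ', Module.End.mul_apply, res_coe, ih, itf_succ]
  refine ⟨FF f (y a) b, ⟨?_, ?_⟩, ev_FF _ _⟩
  · refine e'_FF (congrArg Subtype.val (hz a ha)) fun m => ?_
    have h3 := congrArg Subtype.val (T'.e_f_pow hya (hz a ha) m)
    rw [res_coe, hit, Submodule.coe_smul, hit] at h3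
    rw [h3, hb]
    push_cast
    rfl
  · refine f'_FF ?_
    rw [← hit, hfb]; rfl

/-- **Weitzenböck's theorem**, `sl₂` form. -/
theorem PTriple.fg_ker (T : PTriple e f h wt) :
    ∃ S : Subalgebra k (MvPolynomial ι k), S.FG ∧ ∀ p, p ∈ S ↔ e p = 0 := by
  refine ⟨(inv (e' e) (f' f)).map ev, (ptriple' T).fg_inv.map _, fun p => ⟨?_, fun hp => ?_⟩⟩
  · rintro ⟨F, hF, rfl⟩
    change e (ev F) = 0
    rw [← ev_e', hF.1, map_zero]
  · obtain ⟨F, hF, h⟩ := PTriple.exists_inv T hp
    exact ⟨F, hF, h⟩

end K101.KerFG
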