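import Groth.Agent.AGF.K101.UnipGR
import Groth.Agent.AGF.K496.QAff
import Groth.Agent.AGF.K496.UnipObs
import Groth.Agent.AGF.K497.URadPt
import Groth.Agent.AGF.K498.Denom
import Groth.Agent.AGF.K498.CharZero
import Groth.Agent.S3023

/-!
# Affine homogeneous spaces of reductive groups

* `exists_open_component`: the identity component of a smooth affine group, as an open subgroup scheme;
* `geomRed_of_isAffine`: a smooth closed subgroup with affine quotient of a geometrically reductive group is
  geometrically reductive;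
* `isReductiveGrp_of_geomRed`: geometrically reductive groups have reductive identity component.
-/

set_option autoImplicit false
set_option linter.unusedSectionVars false

universe u

open CategoryTheory MonoidalCategory CartesianMonoidalCategory MonObj GrpObj AlgebraicGeometry
open scoped TensorProduct

namespace K101.Matsushima

open Groth.Agent.Books.AffBridge Groth.Agent.Books.AffBridge2
open Groth.Agent.Sga3B.RG Groth.Agent.Sga3B.RG.BrPts K495.ObsPt K495.Bridge K495.GModPt
open K497.Rat K101.GeomRedSub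

variable {k : Type u} [Field k] [IsAlgClosed k]

/-- The identity component. -/
theorem exists_open_component (H : Over (Spec (CommRingCat.of k))) [GrpObj H] [IsAffine H.left] [Smooth H.hom] :
    ∃ (B : Over (Spec (CommRingCat.of k))) (_ : GrpObj B) (b : B ⟶ H), IsMonHom b ∧
      IsClosedImmersion b.left ∧ IsOpenImmersion b.left ∧ Smooth B.hom ∧ ConnectedSpace B.left := by
  obtain ⟨B, gB, b, hb1, hb2, hb3, hb4⟩ := Groth.Agent.S3023.result k H
  let pt : Spec (CommRingCat.of k) := IsLocalRing.closedPoint k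
  have hlft : LocallyOfFiniteType H.hom := inferInstance
  have hln : IsLocallyNoetherian H.left := by
    have : IsLocallyNoetherian (Spec (CommRingCat.of k)) := inferInstance
    exact LocallyOfFiniteType.isLocallyNoetherian H.hom
  have hlft' : LocallyOfFiniteType B.hom := by rw [← Over.w b]; infer_instance
  have hlfp : LocallyOfFinitePresentation b.left := inferInstance
  have hoi : IsOpenImmersion b.left := IsOpenImmersion.of_flat_of_mono b.left
  have hconn : ConnectedSpace B.left := by
    have h1 := isConnected_connectedComponent (x := (η[H] : 𝟙_ (Over (Spec (CommRingCat.of k))) ⟶ H).left pt)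
    have h2 : _root_.IsConnected (Set.range b.left) := by
      have := hb4 pt
      rw [show Set.range b.left = Set.range b.left.base from rfl, this]
      exact h1
    have h3 : _root_.IsPreconnected (Set.univ : Set B.left) := by
      rw [← b.left.isEmbedding.isInducing.isPreconnected_image, Set.image_univ]
      exact h2.isPreconnected
    exact connectedSpace_iff_univ.2 ⟨⟨(η[B] : 𝟙_ (Over (Spec (CommRingCat.of k))) ⟶ B).left pt, trivial⟩, h3⟩
  exact ⟨B, gB, b, hb1, hb2, hoi, by rw [← Over.w b]; infer_instance, hconn⟩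

section aff

variable {A : Type u} [CommRing A] [HopfAlgebra k A] [Algebra.FiniteType k A] [_root_.IsReduced A]
  {G : Over (Spec (CommRingCat.of k))} [GrpObj G] [IsAffine G.left] [Smooth G.hom]
  (e : G ≅ SpecOver k A) [IsMonHom e.hom]
  {H : Over (Spec (CommRingCat.of k))} [GrpObj H] [Smooth H.hom] {i : H ⟶ G} [IsMonHom i]
  [IsClosedImmersion i.left]
  {X : Over (Spec (CommRingCat.of k))} {a : AlgGrp.Action G X}
  {o : 𝟙_ (Over (Spec (CommRingCat.of k))) ⟶ X}

/-- When the quotient is affine, primes of the ring of invariants lift. -/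
theorem exists_prime_of_isAffine (hX : AGF.IsQuotient i X a o) [IsAffine X.left]
    (q : Ideal (rInv (psub e i : Set (Pt k A)))) (hq : q.IsPrime) :
    ∃ p : Ideal A, p.IsPrime ∧ p.comap (rInv (psub e i : Set (Pt k A))).val = q := by
  obtain ⟨ψ, hψ⟩ := K496.QAff.exists_ringEquiv e hX
  have h3 : Function.Surjective (a.orbitMap o).left := hX.2.2.1.surj
  have h4 : Function.Surjective X.left.toSpecΓ := (inferInstance : Surjective X.left.toSpecΓ).surj
  have h5 : Function.Surjective (G.left.toSpecΓ ≫ Spec.map (a.orbitMap o).left.appTop) := by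
    rw [← Scheme.toSpecΓ_naturality, Scheme.Hom.comp_base]
    exact h4.comp h3
  rw [Scheme.Hom.comp_base] at h5
  have h6 : Function.Surjective (Spec.map (a.orbitMap o).left.appTop) := Function.Surjective.of_comp h5
  let 𝔮 : PrimeSpectrum Γ(X.left, ⊤) := ⟨q.comap (ψ : Γ(X.left, ⊤) →+* _), inferInstance⟩
  obtain ⟨(P : PrimeSpectrum Γ(G.left, ⊤)), hP⟩ := h6 𝔮
  refine ⟨P.asIdeal.comap ((fn e).symm : A →+* Γ(G.left, ⊤)), inferInstance, ?_⟩
  ext b
  obtain ⟨s, rfl⟩ := ψ.surjective b
  have h7 : s ∈ 𝔮.asIdeal ↔ (a.orbitMap o).left.appTop s ∈ P.asIdeal := by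
    rw [← hP]
    exact Iff.rfl
  have h8 : s ∈ 𝔮.asIdeal ↔ ψ s ∈ q := Iff.rfl
  rw [← h8, h7]
  change (fn e).symm (ψ s : A) ∈ P.asIdeal ↔ _
  rw [hψ, RingEquiv.symm_apply_apply]

/-- **Subgroups with affine quotient of geometrically reductive groups.** -/
theorem geomRed_of_isAffine (hG : GeomRed k A) (hX : AGF.IsQuotient i X a o) [IsAffine X.left]
    {C : Type u} [CommRing C] [HopfAlgebra k C] [Algebra.FiniteType k C] [_root_.IsReduced C]
    (e' : H ≅ SpecOver k C) [IsMonHom e'.hom] {φ : A →ₐc[k] C} (hφ : Function.Surjective φ)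
    (hi : i ≫ e.hom = e'.hom ≫ specMap k (φ : A →ₐ[k] C)) : GeomRed k C := by
  have haff : IsAffine H.left := isAffine_of_isAffineHom i.left
  have hobs : AGF.IsObservableIn k i := K496.QAff.isObservableIn_of_isQuasiAffine hX inferInstance
  rw [isObservableIn_iff e, psub_eq_range e i e' φ hi] at hobs
  refine K101.GeomRedSub.GeomRed.sub hG hφ hobs ?_
  rw [← psub_eq_range e i e' φ hi]
  exact isHomog_of_prime fun q hq => exists_prime_of_isAffine e hX q hq

end aff

/-- A closed normal observable subgroup of a geometrically reductive group is geometrically reductive. -/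
theorem geomRed_of_normal {A : Type u} [CommRing A] [HopfAlgebra k A] [Algebra.FiniteType k A]
    [_root_.IsReduced A] {C : Type u} [CommRing C] [HopfAlgebra k C] [Algebra.FiniteType k C]
    [_root_.IsReduced C] (hG : GeomRed k A) {φ : A →ₐc[k] C} (hφ : Function.Surjective φ)
    (hobs : IsObs (Pt.map (K := k) φ).range) (hn : (Pt.map (K := k) φ).range.Normal) : GeomRed k C :=
  K101.GeomRedSub.GeomRed.sub hG hφ hobs (isHomog_of_normal _)

/-- **Geometrically reductive groups have reductive identity component.** -/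
theorem isReductiveGrp_of_geomRed {H : Over (Spec (CommRingCat.of k))} [GrpObj H] [IsAffine H.left]
    [Smooth H.hom] {C : Type u} [CommRing C] [HopfAlgebra k C] [Algebra.FiniteType k C]
    [_root_.IsReduced C] (e : H ≅ SpecOver k C) [IsMonHom e.hom] (hC : GeomRed k C) :
    VecGrp.IsReductiveGrp k H := by
  obtain ⟨H₀, _, j, hj, hjcl, hjo, hsm, hconn⟩ := exists_open_component H
  have haff0 : IsAffine H₀.left := isAffine_of_isAffineHom j.left
  refine ⟨inferInstance, inferInstance, H₀, inferInstance, j, hj, hjo, inferInstance, inferInstance,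
    inferInstance, ?_⟩
  obtain ⟨C₀, _, _, e₀, he₀, φ₀, hft0, hred0, hφ₀, hi₀⟩ := exists_hom_data e j
  -- the identity component is normal and observable
  have hcl0 : IsCl (psub e j : Set (Pt k C)) := isCl_psub e j
  have hclc0 : IsCl ((psub e j : Set (Pt k C))ᶜ) := K495.OpenSub.isCl_compl_psub e j
  have hcon0 : IsConn (psub e j : Set (Pt k C)) := by
    have h1 : IsClosedImmersion (j ≫ e.hom).left := by
      have h2 : IsIso e.hom.left := (Over.forget _).map_isIso e.hom
      rw [Over.comp_left]; infer_instance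
    rw [K497.URadPt.psub_eq_ptsSub]
    exact isConn_ptsSub (j ≫ e.hom)
  have hn0 : (psub e j).Normal := by
    refine ⟨fun n hn g => ?_⟩
    have h1 : (psub e j).map (MulAut.conj g).toMonoidHom ≤ psub e j := by
      refine K498.CharZero.le_of_isConn ?_ ?_ hcl0 hclc0
      · rw [Subgroup.coe_map]
        exact hcl0.conj g
      · rw [Subgroup.coe_map]
        exact hcon0.conj g
    exact h1 ⟨n, hn, rfl⟩
  have hobs0 : IsObs (psub e j) := K495.ObsMore.isObs_of_compl hcl0 hclc0
  rw [psub_eq_range e j e₀ φ₀ hi₀] at hn0 hobs0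
  have hGR0 : GeomRed k C₀ := geomRed_of_normal hC hφ₀ hobs0 hn0
  intro U _ u _ hucl husm hucon hunorm hutor
  have huaff : IsAffine U.left := isAffine_of_isAffineHom u.left
  obtain ⟨C₁, _, _, e₁, he₁, φ₁, hft1, hred1, hφ₁, hi₁⟩ := exists_hom_data e₀ u
  have hcl1 : IsCl (psub e₀ u : Set (Pt k C₀)) := isCl_psub e₀ u
  have hunip : ∀ p ∈ psub e₀ u, IsUnip p := fun p hp => K498.Denom.isUnip_of_mem_psub e₀ u hutor hp
  have hn1 : (psub e₀ u).Normal := by
    refine ⟨?_⟩
    rintro _ ⟨n, rfl⟩ g
    obtain ⟨g, rfl⟩ := (ptE e₀ k).surjective g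
    obtain ⟨n', hn'⟩ := hunorm _ g n
    refine ⟨n', ?_⟩
    rw [← hn', map_mul, map_mul, map_inv]
  have hobs1 : IsObs (psub e₀ u) := K496.UnipObs.isObs_of_unip hcl1 hunip
  rw [psub_eq_range e₀ u e₁ φ₁ hi₁] at hn1 hobs1
  have hGR1 : GeomRed k C₁ := geomRed_of_normal hGR0 hφ₁ hobs1 hn1
  have hconn1 : IsConn (Set.univ : Set (Pt k C₁)) := K497.URadPt.isConn_univ_of_connected e₁
  have hcl : IsClosedImmersion (𝟙 U : U ⟶ U).left := by
    rw [Over.id_left]
    infer_instance
  have hu1 : ∀ p : Pt k C₁, IsUnip p := fun p =>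
    K498.Denom.isUnip_of_mem_psub e₁ (𝟙 U) hutor
      ⟨(ptE e₁ k).symm p, by rw [Category.comp_id, MulEquiv.apply_symm_apply]⟩
  have htriv := K101.UnipGR.eq_one_of_geomRed hGR1 hconn1 hu1
  have h9 : IsClosedImmersion (𝟙 U ≫ e₁.hom).left := by
    have h2 : IsIso e₁.hom.left := (Over.forget _).map_isIso e₁.hom
    rw [Category.id_comp]; infer_instance
  exact isTrivialGrp_of_ptsSub_eq_bot (𝟙 U ≫ e₁.hom) (by
    rw [eq_bot_iff]
    intro p _
    exact htriv p)

/-- **Affine homogeneous spaces of reductive groups.** -/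
theorem isReductiveGrp_of_isAffine {G : Over (Spec (CommRingCat.of k))} [GrpObj G] [IsAffine G.left]
    [Smooth G.hom] {H : Over (Spec (CommRingCat.of k))} [GrpObj H] [Smooth H.hom] {i : H ⟶ G} [IsMonHom i]
    [IsClosedImmersion i.left] (hG : VecGrp.IsReductiveGrp k G) (thmA : VecGrp.ReductiveInvariantsFG k)
    {X : Over (Spec (CommRingCat.of k))} {a : AlgGrp.Action G X}
    {o : 𝟙_ (Over (Spec (CommRingCat.of k))) ⟶ X} (hX : AGF.IsQuotient i X a o) [IsAffine X.left] :
    VecGrp.IsReductiveGrp k H := by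
  obtain ⟨A, _, _, e, he, hft, hred⟩ := exists_data G
  obtain ⟨C, _, _, e', he', φ, hft', hred', hφ, hi⟩ := exists_hom_data e i
  have haff : IsAffine H.left := isAffine_of_isAffineHom i.left
  have hGR : GeomRed k A := K497.GM.geomRed_of_isReductiveGrp e hG thmA
  exact isReductiveGrp_of_geomRed e' (geomRed_of_isAffine e hGR hX e' hφ hi)

end K101.Matsushima
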