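import Groth.Agent.AGF.K498.Denom
import Groth.Agent.AGF.K495.ExtAlong
import Groth.Agent.AGF.K495.GModPt2

/-!
# Observable subgroups and characters occurring in modules of the whole group
-/

set_option autoImplicit false
set_option linter.unusedSectionVars false

universe u

open CategoryTheory MonoidalCategory CartesianMonoidalCategory MonObj GrpObj AlgebraicGeometry
open scoped TensorProduct

namespace K101.ObsChar

open Groth.Agent.Books.AffBridge Groth.Agent.Books.AffBridge2
open Groth.Agent.Sga3B.RG Groth.Agent.Sga3B.RG.BrPts K495.ObsPt K495.Bridge K495.GModPt K498.LieKol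

variable {k : Type u} [Field k] [IsAlgClosed k]

section

variable {H : Over (Spec (CommRingCat.of k))} [GrpObj H] [IsAffine H.left] [Smooth H.hom]
  {C : Type u} [CommRing C] [HopfAlgebra k C] (e : H ≅ SpecOver k C) [IsMonHom e.hom]

/-- The value of the inverse of a character. -/
lemma apply_inv_char (χ : H ⟶ Red.Gm (Spec (CommRingCat.of k))) (y : Pt k C) :
    y (fn e (Red.gmFn χ⁻¹)) * y (fn e (Red.gmFn χ)) = 1 := by
  rw [← Pt.apply_mul, ← map_mul, GmPts.gmFn_inv, map_one, Pt.apply_one]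

/-- The one-dimensional representation attached to a character. -/
noncomputable def charRep {c : C} (hc : IsChar (k := k) c) : Representation k (Pt k C) k where
  toFun y := y c • LinearMap.id
  map_one' := by rw [hc.one, one_smul]; rfl
  map_mul' y z := by
    rw [hc.mul]
    ext
    simp [mul_smul, _root_.mul_comm]

lemma charRep_apply {c : C} (hc : IsChar (k := k) c) (y : Pt k C) (x : k) :
    charRep hc y x = y c * x := rfl

lemma isAlg_charRep {c : C} (hc : IsChar (k := k) c) : IsAlg (charRep hc) := by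
  intro ℓ x
  refine ⟨ℓ x • c, fun y => ?_⟩
  rw [Pt.apply_smul, charRep_apply]
  have h1 : y c * x = y c • x := rfl
  rw [h1, map_smul, smul_eq_mul, _root_.mul_comm]

end

variable {G : Over (Spec (CommRingCat.of k))} [GrpObj G] [IsAffine G.left] [Smooth G.hom]
  {H : Over (Spec (CommRingCat.of k))} [GrpObj H] [Smooth H.hom] (i : H ⟶ G) [IsMonHom i]
  [IsClosedImmersion i.left]

/-- The character `χ` occurs on a nonzero semi-invariant vector of a finite-dimensional `G`-module. -/
def Occurs (χ : H ⟶ Red.Gm (Spec (CommRingCat.of k))) : Prop :=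
  ∃ (V : Type u) (_ : AddCommGroup V) (_ : Module k V) (_ : Module.Finite k V) (ρ : VecGrp.GMod G V) (v : V), v ≠ 0 ∧
    ∀ (B : Type u) [CommRing B] [Algebra k B] (h : VecGrp.pt k B ⟶ H),
      ρ.ρ B (h ≫ i) ((1 : B) ⊗ₜ[k] v) = VecGrp.chiVal χ h • ((1 : B) ⊗ₜ[k] v)

/-- Every character occurs when the subgroup is observable. -/
theorem occurs_of_isObservableIn (h : AGF.IsObservableIn k i)
    (χ : H ⟶ Red.Gm (Spec (CommRingCat.of k))) [IsMonHom χ] : Occurs i χ := by
  obtain ⟨A, _, _, e, he, hft, hred⟩ := exists_data G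
  have hHa : IsAffine H.left := isAffine_of_isAffineHom i.left
  obtain ⟨C, _, _, e', he', φ, hft', hred', hφ, hi⟩ := exists_hom_data e i
  rw [isObservableIn_iff e, psub_eq_range e i e' φ hi] at h
  have hc : IsChar (k := k) (fn e' (Red.gmFn χ)) := K498.Denom.isChar_fn e' χ
  obtain ⟨W, _, _, _, ρ, f, hρ, hf, hfe⟩ :=
    K495.ObsExt.exists_ext hφ h.invExt (isAlg_charRep hc)
  obtain ⟨m, hm⟩ := exists_gmod e ρ hρ
  refine ⟨W, inferInstance, inferInstance, inferInstance, m, f 1, fun h0 => ?_, fun B _ _ g => ?_⟩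
  · have h1 := hf (h0.trans (map_zero f).symm)
    exact one_ne_zero h1
  · have h1 : ∀ p : Pt k C, rep e' (res i m) p (f 1) = p (fn e' (Red.gmFn χ)) • f 1 := by
      intro p
      rw [rep_res e e' i φ hi, hm, ← hfe, charRep_apply]
      have h2 : p (fn e' (Red.gmFn χ)) * 1 = p (fn e' (Red.gmFn χ)) • (1 : k) := rfl
      rw [h2, map_smul]
    have h2 := ρ_eq_of_eigen e' (res i m) h1 B g
    rw [← K498.Denom.chiVal_eq e'] at h2
    exact h2

/-- **The criterion.** -/
theorem isObservableIn_of_forall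
    (hch : ∀ (χ : H ⟶ Red.Gm (Spec (CommRingCat.of k))), IsMonHom χ → Occurs i χ → Occurs i χ⁻¹) :
    AGF.IsObservableIn k i := by
  obtain ⟨A, _, _, e, he, hft, hred⟩ := exists_data G
  have hHa : IsAffine H.left := isAffine_of_isAffineHom i.left
  obtain ⟨C, _, _, e', he', φ, hft', hred', hφ, hi⟩ := exists_hom_data e i
  have hcl := isCl_psub e i
  rw [isObservableIn_iff e]
  rw [psub_eq_range e i e' φ hi] at hcl ⊢
  refine K495.ObsExt.isObs_of_invExt hcl ?_
  intro χ0 F hF h1
  have hχ : ∀ h ∈ (Pt.map (K := k) φ).range, h F = χ0 h * (1 : Pt k A) F := by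
    intro h hh
    have := hF 1 h hh
    rwa [_root_.one_mul] at this
  let c : C := ((1 : Pt k A) F)⁻¹ • φ F
  have hc : ∀ y : Pt k C, y c = χ0 (Pt.map φ y) := by
    intro y
    rw [Pt.apply_smul, ← Pt.map_apply, hχ _ ⟨y, rfl⟩, _root_.mul_comm (χ0 _), inv_mul_cancel_left₀ h1]
  have hc1 : (1 : Pt k C) c = 1 := by
    rw [hc, map_one]
    apply mul_right_cancel₀ h1
    rw [← hχ _ (one_mem _), _root_.one_mul]
  have hmul : ∀ y z : Pt k C, (y * z) c = y c * z c := by
    intro y z
    rw [hc, hc, hc]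
    apply mul_right_cancel₀ h1
    rw [← hχ _ ⟨_, rfl⟩, map_mul, hF _ _ ⟨z, rfl⟩, hχ _ ⟨y, rfl⟩]
    ring
  obtain ⟨χ, hχm, hχc⟩ := K495.Chars.exists_char e' hc1 (K495.Chars.isUnit_of_mul hc1 hmul) hmul
  have hF0 : F ≠ 0 := fun h0 => h1 (by rw [h0, Pt.apply_zero])
  have hocc : Occurs i χ := by
    obtain ⟨U, hU1, hU2, hU3, -⟩ := exists_stable (K := k) (Submodule.span k {F})
    have hFU : F ∈ U := hU2 (Submodule.mem_span_singleton_self F)
    have hρ₀ : IsAlg ((rTrRep k A).subrepresentation U hU3) := (isAlg_rTrRep k A).subrepresentation U hU3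
    obtain ⟨m, hm⟩ := exists_gmod e _ hρ₀
    refine ⟨U, inferInstance, inferInstance, inferInstance, m, ⟨F, hFU⟩,
      fun h0 => hF0 (congrArg Subtype.val h0), fun B _ _ g => ?_⟩
    have h1 : ∀ p : Pt k C, rep e' (res i m) p (⟨F, hFU⟩ : U) = p (fn e' (Red.gmFn χ)) • (⟨F, hFU⟩ : U) := by
      intro p
      rw [rep_res e e' i φ hi, hm, hχc]
      apply Subtype.ext
      apply eq_of_forall_pt (K := k)
      intro x
      change x (rTr (Pt.map φ p) F) = x (p c • F)
      rw [rTr_apply_pt, Pt.apply_smul, hc, hF _ _ ⟨p, rfl⟩]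
    have h2 := ρ_eq_of_eigen e' (res i m) h1 B g
    rw [← K498.Denom.chiVal_eq e'] at h2
    exact h2
  obtain ⟨W, _, _, _, ρ, w, hw0, hw⟩ := hch χ hχm hocc
  obtain ⟨ℓ, hℓ⟩ := Module.Projective.exists_dual_eq_one k hw0
  obtain ⟨E, hE⟩ := isAlg_rep e ρ ℓ w
  have hwt : ∀ y : Pt k C, rep e ρ (Pt.map φ y) w = y (fn e' (Red.gmFn χ⁻¹)) • w := by
    intro y
    obtain ⟨g, rfl⟩ := (ptE e' k).surjective y
    have h2 := hw k g
    rw [ρ_k e, ptE_comp e e' i φ hi, K498.Denom.chiVal_eq e'] at h2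
    have h3 := congrArg (TensorProduct.lid k W) h2
    rw [map_smul, TensorProduct.lid_tmul, TensorProduct.lid_tmul, one_smul, one_smul] at h3
    exact h3
  refine ⟨E, ?_, ?_⟩
  · rintro x _ ⟨y, rfl⟩
    have h2 : y (fn e' (Red.gmFn χ⁻¹)) * y c = 1 := by
      rw [← hχc]
      exact apply_inv_char e' χ y
    have h5 : (Pt.map φ) y = Pt.map φ y := rfl
    rw [← hE, ← hE, map_mul, Module.End.mul_apply, hwt, map_smul, map_smul, smul_eq_mul, ← hc,
      ← _root_.mul_assoc, _root_.mul_comm (y c), h2, _root_.one_mul]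
  · rw [← hE, map_one, Module.End.one_apply, hℓ]
    exact one_ne_zero

end K101.ObsChar
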