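import Groth.Agent.AGF.K495.ExtAlong
import Groth.Agent.AGF.K495.Norm
import Groth.Agent.Sga3B.RG.ChevLine187

/-!
# Observable subgroups and invariant rational functions

* `exists_fixed_mem`: a nonzero ideal of `k[G]` stable under right translation by an observable subgroup contains a
  nonzero invariant;
* `frac_of_isObs`, `isObs_of_frac`: observability in terms of invariant fractions;
* `cross_iff`: the scheme theoretic invariance condition on a fraction is tested on rational points.
-/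

set_option autoImplicit false
set_option linter.unusedSectionVars false

universe u

open CategoryTheory MonoidalCategory CartesianMonoidalCategory MonObj GrpObj AlgebraicGeometry
open scoped TensorProduct

namespace K101.ObsFrac

open Groth.Agent.Books.AffBridge Groth.Agent.Books.AffBridge2
open Groth.Agent.Sga3B.RG Groth.Agent.Sga3B.RG.BrPts K495.ObsPt K495.Bridge

section pts

variable {K : Type u} [Field K] [IsAlgClosed K] {A : Type u} [CommRing A] [HopfAlgebra K A]
  [Algebra.FiniteType K A] [_root_.IsReduced A]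
  {B : Type u} [CommRing B] [HopfAlgebra K B] [Algebra.FiniteType K B] [_root_.IsReduced B]

/-- A nonzero ideal stable under right translation by an observable subgroup contains a nonzero
invariant function. -/
theorem exists_fixed_mem {φ : A →ₐc[K] B} (hφ : Function.Surjective φ)
    (hobs : IsObs (Pt.map (K := K) φ).range) (I : Ideal A) (hI : I ≠ ⊥)
    (hst : ∀ (y : Pt K B), ∀ a ∈ I, rTr (Pt.map φ y) a ∈ I) :
    ∃ c ∈ I, c ≠ 0 ∧ c ∈ rInv ((Pt.map (K := K) φ).range : Set (Pt K A)) := by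
  classical
  obtain ⟨v₀, hv₀, hv0⟩ := Submodule.exists_mem_ne_zero_of_ne_bot hI
  obtain ⟨U, hU1, hU2, hU3, -⟩ := exists_stable (K := K) (Submodule.span K {v₀})
  let V : Submodule K A := U ⊓ I.restrictScalars K
  have hVfin : FiniteDimensional K V := Submodule.finiteDimensional_of_le inf_le_left
  let τ : Representation K (Pt K B) A := (rTrRep K A).comp (Pt.map φ)
  have hτ : IsAlg τ := (isAlg_rTrRep K A).comp_map φ
  have hV : ∀ y : Pt K B, V ≤ V.comap (τ y) := fun y a ha => ⟨hU3 _ ha.1, hst y a ha.2⟩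
  let σ : Representation K (Pt K B) V := τ.subrepresentation V hV
  have hσ : IsAlg σ := hτ.subrepresentation V hV
  have hσd : IsAlg σ.dual := hσ.dual
  obtain ⟨W, _, _, _, ρ, f, hρ, hf, hfe⟩ := K495.ObsExt.exists_ext hφ hobs.invExt hσd
  let ev (x : Pt K A) : Module.Dual K V := x.ofConv.toLinearMap ∘ₗ V.subtype
  have hev : ∀ (x : Pt K A) (v : V), ev x v = x (v : A) := fun x v => rfl
  have hevσ : ∀ (x : Pt K A) (y : Pt K B), ev (x * Pt.map φ y) = σ.dual y⁻¹ (ev x) := by
    intro x y
    apply LinearMap.ext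
    intro v
    rw [Representation.dual_apply, Module.Dual.transpose_apply, _root_.inv_inv, LinearMap.comp_apply]
    change (x * Pt.map φ y) (v : A) = x (rTr (Pt.map φ y) (v : A))
    rw [rTr_apply_pt]
  -- a point and a linear form where nothing vanishes
  have hv₀V : v₀ ∈ V := ⟨hU2 (Submodule.mem_span_singleton_self v₀), hv₀⟩
  obtain ⟨x₀, hx₀⟩ : ∃ x : Pt K A, x v₀ ≠ 0 := by
    by_contra! hcon
    exact hv0 (eq_zero_of_forall_pt (K := K) hcon)
  have h1 : ρ x₀ (f (ev x₀)) ≠ 0 := by
    intro h0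
    have h2 : ρ x₀⁻¹ (ρ x₀ (f (ev x₀))) = f (ev x₀) := by
      rw [← Module.End.mul_apply, ← map_mul, inv_mul_cancel, map_one, Module.End.one_apply]
    rw [h0, map_zero] at h2
    have h3 : ev x₀ = 0 := hf (h2.symm.trans (map_zero f).symm)
    exact hx₀ (LinearMap.congr_fun h3 ⟨v₀, hv₀V⟩)
  obtain ⟨w', hw'⟩ := Module.Projective.exists_dual_eq_one K h1
  let b := Module.finBasis K V
  choose c hc using fun i => hρ w' (f (b.coord i))
  have hsum : ∀ x : Pt K A, x (∑ i, c i * (b i : A)) = w' (ρ x (f (ev x))) := by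
    intro x
    have h2 : ev x = ∑ i, x (b i : A) • b.coord i := by
      apply b.ext
      intro j
      rw [hev]
      simp only [LinearMap.sum_apply, LinearMap.smul_apply, smul_eq_mul, Module.Basis.coord_apply,
        Module.Basis.repr_self]
      rw [Finset.sum_eq_single j]
      · rw [Finsupp.single_eq_same, _root_.mul_one]
      · intro i _ hij
        rw [Finsupp.single_eq_of_ne hij, mul_zero]
      · intro h; exact absurd (Finset.mem_univ _) h
    conv_rhs => rw [h2]
    rw [Pt.apply_sum]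
    simp only [map_sum, map_smul, smul_eq_mul]
    refine Finset.sum_congr rfl fun i _ => ?_
    rw [Pt.apply_mul, ← hc, _root_.mul_comm]
  refine ⟨∑ i, c i * (b i : A), ?_, ?_, ?_⟩
  · exact Ideal.sum_mem _ fun i _ => I.mul_mem_left _ (b i).2.2
  · intro h0
    have h2 := hsum x₀
    rw [h0, Pt.apply_zero, hw'] at h2
    exact zero_ne_one h2
  · rintro x _ ⟨y, rfl⟩
    have h5 : (Pt.map φ) y = Pt.map φ y := rfl
    rw [hsum, hsum, h5, hevσ, hfe, map_mul, Module.End.mul_apply]
    congr 2
    rw [← Module.End.mul_apply, ← map_mul, ← map_mul, mul_inv_cancel, map_one, map_one,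
      Module.End.one_apply]

variable [IsDomain A]

/-- Invariant fractions are fractions of invariants. -/
theorem frac_of_isObs {φ : A →ₐc[K] B} (hφ : Function.Surjective φ)
    (hobs : IsObs (Pt.map (K := K) φ).range) (a b : A) (hb : b ≠ 0)
    (h : ∀ (x : Pt K A), ∀ g ∈ (Pt.map (K := K) φ).range, (x * g) a * x b = x a * (x * g) b) :
    ∃ a' b' : A, a' ∈ rInv ((Pt.map (K := K) φ).range : Set (Pt K A)) ∧
      b' ∈ rInv ((Pt.map (K := K) φ).range : Set (Pt K A)) ∧ b' ≠ 0 ∧ a * b' = a' * b := by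
  have htr : ∀ g ∈ (Pt.map (K := K) φ).range, rTr g a * b = a * rTr g b := by
    intro g hg
    apply eq_of_forall_pt (K := K)
    intro x
    rw [Pt.apply_mul, Pt.apply_mul, rTr_apply_pt, rTr_apply_pt]
    exact h x g hg
  have hne : ∀ g : Pt K A, rTr g b ≠ 0 := by
    intro g h0
    apply hb
    apply eq_zero_of_forall_pt (K := K)
    intro x
    have h1 := rTr_apply_pt g (x * g⁻¹) b
    rw [h0, Pt.apply_zero, inv_mul_cancel_right] at h1
    exact h1.symm
  let I : Ideal A :=
    { carrier := {c | ∃ d, c * a = d * b}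
      add_mem' := by
        rintro c c' ⟨d, hd⟩ ⟨d', hd'⟩
        exact ⟨d + d', by rw [add_mul, add_mul, hd, hd']⟩
      zero_mem' := ⟨0, by rw [zero_mul, zero_mul]⟩
      smul_mem' := by
        rintro e c ⟨d, hd⟩
        exact ⟨e * d, by rw [smul_eq_mul, _root_.mul_assoc, hd, _root_.mul_assoc]⟩ }
  have hI : I ≠ ⊥ := by
    intro h0
    have h1 : b ∈ I := ⟨a, _root_.mul_comm _ _⟩
    rw [h0] at h1
    exact hb h1
  have hkey : ∀ g ∈ (Pt.map (K := K) φ).range, ∀ c d : A, c * a = d * b →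
      rTr g c * a = rTr g d * b := by
    intro g hg c d hcd
    have h1 := congrArg (rTr g) hcd
    rw [map_mul, map_mul] at h1
    apply mul_right_cancel₀ (hne g)
    calc rTr g c * a * rTr g b = rTr g c * (a * rTr g b) := by ring
      _ = rTr g c * (rTr g a * b) := by rw [htr g hg]
      _ = (rTr g c * rTr g a) * b := by ring
      _ = rTr g d * b * rTr g b := by rw [h1]; ring
  obtain ⟨b', ⟨a', hab⟩, hb'0, hb'⟩ := exists_fixed_mem hφ hobs I hI (by
    rintro y c ⟨d, hd⟩
    exact ⟨_, hkey _ ⟨y, rfl⟩ c d hd⟩)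
  refine ⟨a', b', ?_, hb', hb'0, by rw [_root_.mul_comm, hab]⟩
  rw [mem_rInv_iff_rTr] at hb' ⊢
  intro g hg
  have h1 := hkey g hg b' a' hab
  rw [hb' g hg, hab] at h1
  exact (mul_right_cancel₀ hb h1).symm

/-- If invariant fractions are fractions of invariants then the subgroup is observable. -/
theorem isObs_of_frac {H : Subgroup (Pt K A)} (hcl : IsCl (H : Set (Pt K A)))
    (h : ∀ a b : A, b ≠ 0 → (∀ (x : Pt K A), ∀ g ∈ H, (x * g) a * x b = x a * (x * g) b) →
      ∃ a' b' : A, a' ∈ rInv (H : Set (Pt K A)) ∧ b' ∈ rInv (H : Set (Pt K A)) ∧ b' ≠ 0 ∧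
        a * b' = a' * b) : IsObs H := by
  obtain ⟨V, _, _, _, ρ, v, hρ, hv0, hst⟩ := Groth.Agent.Sga3B.RG.ChevLine187.exists_line hcl
  obtain ⟨ℓ₀, hℓ₀⟩ := Module.Projective.exists_dual_eq_one K hv0
  obtain ⟨F, hF⟩ := hρ ℓ₀ v
  have hwt : ∀ g ∈ H, ρ g v = g F • v := by
    intro g hg
    obtain ⟨c, hc⟩ := (hst g).1 hg
    rw [← hF, hc, map_smul, hℓ₀, smul_eq_mul, _root_.mul_one]
  have hF1 : (1 : Pt K A) F = 1 := by rw [← hF, map_one, Module.End.one_apply, hℓ₀]
  have hF0 : F ≠ 0 := by
    rintro rfl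
    rw [Pt.apply_zero] at hF1
    exact zero_ne_one hF1
  intro g hg
  rw [hst]
  refine ⟨g F, ?_⟩
  rw [← sub_eq_zero, ← Module.forall_dual_apply_eq_zero_iff K]
  intro ℓ
  obtain ⟨a, ha⟩ := hρ ℓ v
  obtain ⟨a', b', ha', hb', hb'0, hab⟩ := h a F hF0 (by
    intro x s hs
    rw [← ha, ← ha, ← hF, ← hF, map_mul, Module.End.mul_apply, hwt s hs, map_smul, map_smul,
      map_smul, smul_eq_mul, smul_eq_mul]
    ring)
  have hga' : ∀ x, (x * g) a' = x a' := hg a' ha'
  have hgb' : ∀ x, (x * g) b' = x b' := hg b' hb'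
  -- the identity of functions
  have hfun : rTr g a * F = a * rTr g F := by
    apply mul_right_cancel₀ hb'0
    apply eq_of_forall_pt (K := K)
    intro x
    have h1 : (x * g) a * (x * g) b' = (x * g) a' * (x * g) F := by
      rw [← Pt.apply_mul, ← Pt.apply_mul, hab]
    have h2 : x a * x b' = x a' * x F := by
      rw [← Pt.apply_mul, ← Pt.apply_mul, hab]
    rw [hga', hgb'] at h1
    rw [Pt.apply_mul, Pt.apply_mul, Pt.apply_mul, Pt.apply_mul, rTr_apply_pt, rTr_apply_pt]
    calc (x * g) a * x F * x b' = ((x * g) a * x b') * x F := by ring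
      _ = (x a' * x F) * (x * g) F := by rw [h1]; ring
      _ = x a * (x * g) F * x b' := by rw [← h2]; ring
  have h3 : (1 : Pt K A) (rTr g a * F) = (1 : Pt K A) (a * rTr g F) := by rw [hfun]
  rw [Pt.apply_mul, Pt.apply_mul, rTr_apply_pt, rTr_apply_pt, _root_.one_mul, hF1,
    _root_.mul_one, ← ha, ← ha, map_one, Module.End.one_apply] at h3
  rw [map_sub, map_smul, smul_eq_mul, h3, sub_eq_zero, _root_.mul_comm]

end pts

section sch

variable {k : Type u} [Field k] [IsAlgClosed k] {A : Type u} [CommRing A] [HopfAlgebra k A]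
  {G : Over (Spec (CommRingCat.of k))} [GrpObj G] [IsAffine G.left] [Smooth G.hom]
  (e : G ≅ SpecOver k A) [IsMonHom e.hom]
  {H : Over (Spec (CommRingCat.of k))} [GrpObj H] [IsAffine H.left] [Smooth H.hom] (i : H ⟶ G)
  [IsMonHom i]

lemma ev_mul {B : Type u} [CommRing B] [Algebra k B] {X : Over (Spec (CommRingCat.of k))}
    (g : VecGrp.pt k B ⟶ X) (s t : Γ(X.left, ⊤)) : ev g (s * t) = ev g s * ev g t := by
  rw [ev, ev, ev, map_mul, map_mul]

/-- Invariance of a fraction is tested on rational points. -/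
theorem cross_iff (a b : Γ(G.left, ⊤)) :
    ((G ◁ i) ≫ μ[G]).left.appTop a * (fst G H).left.appTop b =
        (fst G H).left.appTop a * ((G ◁ i) ≫ μ[G]).left.appTop b ↔
      ∀ (x : Pt k A), ∀ g ∈ psub e i, (x * g) (fn e a) * x (fn e b) = x (fn e a) * (x * g) (fn e b) := by
  have hred : AlgebraicGeometry.IsReduced (G ⊗ H).left :=
    Groth.Agent.Books.AlgPtsSmooth.isReduced_of_smooth (G ⊗ H)
  have hz : ∀ z : VecGrp.pt k k ⟶ G ⊗ H,
      z ≫ (G ◁ i) ≫ μ[G] = (z ≫ fst G H) * ((z ≫ snd G H) ≫ i) := by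
    intro z
    have h3 : z = lift (z ≫ fst G H) (z ≫ snd G H) := by
      rw [← comp_lift, lift_fst_snd, Category.comp_id]
    conv_lhs => rw [h3, ← Category.assoc, lift_whiskerLeft]
    rfl
  have key : ∀ z : VecGrp.pt k k ⟶ G ⊗ H,
      (ev z (((G ◁ i) ≫ μ[G]).left.appTop a * (fst G H).left.appTop b) =
        ev z ((fst G H).left.appTop a * ((G ◁ i) ≫ μ[G]).left.appTop b)) ↔
      (ptE e k (z ≫ fst G H) * ptE e k ((z ≫ snd G H) ≫ i)) (fn e a) * (ptE e k (z ≫ fst G H)) (fn e b) =
        (ptE e k (z ≫ fst G H)) (fn e a) *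
          (ptE e k (z ≫ fst G H) * ptE e k ((z ≫ snd G H) ≫ i)) (fn e b) := by
    intro z
    rw [ev_mul, ev_mul, ← ev_comp, ← ev_comp, ← ev_comp, ← ev_comp, hz, ev_fn e, ev_fn e, ev_fn e,
      ev_fn e, map_mul]
  constructor
  · rintro h x _ ⟨t, rfl⟩
    obtain ⟨y, rfl⟩ := (ptE e k).surjective x
    have h1 := (key (lift y t)).1 (by rw [h])
    rw [lift_fst, lift_snd] at h1
    exact h1
  · intro h
    apply section_ext
    intro z
    exact (key z).2 (h _ _ ⟨z ≫ snd G H, rfl⟩)

/-- **Observability and invariant fractions.** -/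
theorem isObservableIn_iff_frac [ConnectedSpace G.left] [IsClosedImmersion i.left] :
    AGF.IsObservableIn k i ↔
      ∀ a b : Γ(G.left, ⊤), b ≠ 0 →
        ((G ◁ i) ≫ μ[G]).left.appTop a * (fst G H).left.appTop b =
          (fst G H).left.appTop a * ((G ◁ i) ≫ μ[G]).left.appTop b →
        ∃ a' b' : Γ(G.left, ⊤), AGF.IsRTransInv i a' ∧ AGF.IsRTransInv i b' ∧ b' ≠ 0 ∧
          a * b' = a' * b := by
  obtain ⟨A, _, _, e, he, hft, hred⟩ := exists_data G
  obtain ⟨C, _, _, e', he', φ, hft', hred', hφ, hi⟩ := exists_hom_data e i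
  have hdom : IsDomain A := K495.Norm.isDomain_of_connected e
  have hcl := isCl_psub e i
  rw [isObservableIn_iff e]
  constructor
  · intro hobs a b hb hab
    rw [cross_iff e i] at hab
    have hb' : fn e b ≠ 0 := fun h0 => hb ((fn e).injective (by rw [h0, map_zero]))
    have hr := psub_eq_range e i e' φ hi
    rw [hr] at hobs hab
    obtain ⟨a', b', ha', hb', hb'0, h⟩ := frac_of_isObs hφ hobs _ _ hb' hab
    refine ⟨(fn e).symm a', (fn e).symm b', ?_, ?_, ?_, ?_⟩
    · rw [isRTransInv_iff_mem e, RingEquiv.apply_symm_apply, hr]; exact ha'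
    · rw [isRTransInv_iff_mem e, RingEquiv.apply_symm_apply, hr]; exact hb'
    · intro h0
      apply hb'0
      rw [← RingEquiv.apply_symm_apply (fn e) b', h0, map_zero]
    · apply (fn e).injective
      rw [map_mul, map_mul, RingEquiv.apply_symm_apply, RingEquiv.apply_symm_apply, h]
  · intro h
    refine isObs_of_frac hcl fun a b hb hab => ?_
    obtain ⟨a', b', ha', hb', hb'0, h1⟩ := h ((fn e).symm a) ((fn e).symm b)
      (fun h0 => hb (by rw [← RingEquiv.apply_symm_apply (fn e) b, h0, map_zero]))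
      (by
        rw [cross_iff e i, RingEquiv.apply_symm_apply, RingEquiv.apply_symm_apply]
        exact hab)
    refine ⟨fn e a', fn e b', (isRTransInv_iff_mem e i a').1 ha', (isRTransInv_iff_mem e i b').1 hb',
      fun h0 => hb'0 ((fn e).injective (by rw [h0, map_zero])), ?_⟩
    have h2 := congrArg (fn e) h1
    rw [map_mul, map_mul, RingEquiv.apply_symm_apply, RingEquiv.apply_symm_apply] at h2
    exact h2

end sch

end K101.ObsFrac
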