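import Groth.Agent.AGF.K101.SlTwo
import Mathlib.Algebra.MvPolynomial.Derivation
import Mathlib.RingTheory.Derivation.Lie
import Mathlib.RingTheory.MvPolynomial.Homogeneous
import Mathlib.RingTheory.Polynomial.Basic
import Mathlib.RingTheory.FiniteType

/-! Linear `sl₂`-actions on polynomial rings (characteristic zero): the invariants form a finitely generated
algebra (Hilbert's argument with the Casimir operator in place of the Reynolds operator). -/

set_option autoImplicit false
set_option linter.unusedSectionVars false

namespace K101.PolyTriple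

open MvPolynomial Module K101.SlTwo

variable {k : Type*} [Field k] [CharZero k] {ι : Type*} [Finite ι]

/-- A linear `sl₂`-triple of derivations of a polynomial ring, the variables being weight vectors. -/
structure PTriple (e f h : Derivation k (MvPolynomial ι k) (MvPolynomial ι k)) (wt : ι → ℤ) : Prop where
  ef : ∀ i, e (f (X i)) - f (e (X i)) = h (X i)
  he : ∀ i, h (e (X i)) - e (h (X i)) = 2 • e (X i)
  hf : ∀ i, h (f (X i)) - f (h (X i)) = - (2 • f (X i))
  hX : ∀ i, h (X i) = (wt i : k) • (X i : MvPolynomial ι k)
  e_hom : ∀ i, (e (X i)).IsHomogeneous 1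
  f_hom : ∀ i, (f (X i)).IsHomogeneous 1

section deg

lemma map_homogeneous (D : Derivation k (MvPolynomial ι k) (MvPolynomial ι k))
    (hD : ∀ i, (D (X i)).IsHomogeneous 1) (n : ℕ) :
    ∀ p ∈ homogeneousSubmodule ι k n, D p ∈ homogeneousSubmodule ι k n := by
  have h1 : ∀ p ∈ homogeneousSubmodule ι k 1, D p ∈ homogeneousSubmodule ι k 1 := by
    intro p hp
    rw [homogeneousSubmodule_one_eq_span_X] at hp
    induction hp using Submodule.span_induction with
    | mem x hx => obtain ⟨i, rfl⟩ := hx; exact hD i
    | zero => rw [map_zero]; exact Submodule.zero_mem _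
    | add x y _ _ hx hy => rw [map_add]; exact Submodule.add_mem _ hx hy
    | smul a x _ hx => rw [Derivation.map_smul]; exact Submodule.smul_mem _ _ hx
  induction n with
  | zero =>
    intro p hp
    rw [homogeneousSubmodule_zero, Submodule.mem_one] at hp
    obtain ⟨y, rfl⟩ := hp
    rw [Derivation.map_algebraMap]
    exact Submodule.zero_mem _
  | succ n ih =>
    intro p hp
    rw [← homogeneousSubmodule_one_pow, pow_succ, homogeneousSubmodule_one_pow] at hp
    induction hp using Submodule.mul_induction_on' with
    | mem_mul_mem a ha b hb =>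
      rw [Derivation.leibniz, smul_eq_mul, smul_eq_mul]
      refine Submodule.add_mem _ (IsHomogeneous.mul ha (h1 b hb)) ?_
      rw [add_comm]
      exact IsHomogeneous.mul hb (ih a ha)
    | add a _ b _ ha hb => rw [map_add]; exact Submodule.add_mem _ ha hb

end deg

variable {e f h : Derivation k (MvPolynomial ι k) (MvPolynomial ι k)} {wt : ι → ℤ}

lemma PTriple.comm_ef (T : PTriple e f h wt) (p : MvPolynomial ι k) : e (f p) - f (e p) = h p := by
  have : ⁅e, f⁆ = h := MvPolynomial.derivation_ext fun i => by
    rw [Derivation.commutator_apply]; exact T.ef i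
  rw [← this, Derivation.commutator_apply]

lemma PTriple.comm_he (T : PTriple e f h wt) (p : MvPolynomial ι k) : h (e p) - e (h p) = 2 • e p := by
  have : ⁅h, e⁆ = 2 • e := MvPolynomial.derivation_ext fun i => by
    rw [Derivation.commutator_apply]; exact T.he i
  have h2 := congrArg (fun D => D p) this
  simpa [Derivation.commutator_apply] using h2

lemma PTriple.comm_hf (T : PTriple e f h wt) (p : MvPolynomial ι k) : h (f p) - f (h p) = -(2 • f p) := by
  have : ⁅h, f⁆ = -(2 • f) := MvPolynomial.derivation_ext fun i => by
    rw [Derivation.commutator_apply]; exact T.hf i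
  have h2 := congrArg (fun D => D p) this
  simpa [Derivation.commutator_apply] using h2

lemma PTriple.h_hom (T : PTriple e f h wt) (i : ι) : (h (X i)).IsHomogeneous 1 := by
  rw [T.hX i]
  exact Submodule.smul_mem (homogeneousSubmodule ι k 1) _ (isHomogeneous_X k i)

lemma h_monomial (hX : ∀ i, h (X i) = (wt i : k) • (X i : MvPolynomial ι k)) (s : ι →₀ ℕ) :
    ∃ a : ℤ, ∀ r : k, h (monomial s r) = (a : k) • monomial s r := by
  have key : ∃ a : ℤ, h (monomial s 1) = (a : k) • monomial s (1 : k) := by
    induction s using Finsupp.induction_linear with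
    | zero => exact ⟨0, by
        have : (monomial (0 : ι →₀ ℕ) (1 : k)) = 1 := rfl
        rw [this, Derivation.map_one_eq_zero]; simp⟩
    | add s t hs ht =>
      obtain ⟨a, ha⟩ := hs
      obtain ⟨b, hb⟩ := ht
      refine ⟨a + b, ?_⟩
      have : (monomial (s + t) (1 : k)) = monomial s 1 * monomial t 1 := by
        rw [monomial_mul, one_mul]
      rw [this, Derivation.leibniz, ha, hb]
      simp only [smul_eq_mul, mul_smul_comm]
      rw [mul_comm (monomial t (1 : k)) (monomial s (1 : k)), ← add_smul]
      push_cast
      rw [add_comm]
    | single i n =>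
      refine ⟨n * wt i, ?_⟩
      have : (monomial (Finsupp.single i n) (1 : k)) = X i ^ n := (X_pow_eq_monomial).symm
      rw [this, Derivation.leibniz_pow, hX i]
      rcases n with _ | n
      · simp
      · rw [Nat.add_sub_cancel, smul_eq_mul, mul_smul_comm, ← pow_succ]
        push_cast
        rw [mul_smul, ← Nat.cast_smul_eq_nsmul k]
        push_cast
        rfl
  obtain ⟨a, ha⟩ := key
  refine ⟨a, fun r => ?_⟩
  have : monomial s r = r • monomial s (1 : k) := by rw [smul_monomial, smul_eq_mul, mul_one]
  rw [this, Derivation.map_smul, ha, smul_comm]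

/-- Restriction of a degree preserving derivation to the homogeneous polynomials of degree `n`. -/
noncomputable def res (D : Derivation k (MvPolynomial ι k) (MvPolynomial ι k))
    (hD : ∀ i, (D (X i)).IsHomogeneous 1) (n : ℕ) : Module.End k (homogeneousSubmodule ι k n) :=
  (D : MvPolynomial ι k →ₗ[k] MvPolynomial ι k).restrict (map_homogeneous D hD n)

@[simp] lemma res_coe (D : Derivation k (MvPolynomial ι k) (MvPolynomial ι k))
    (hD : ∀ i, (D (X i)).IsHomogeneous 1) (n : ℕ) (x : homogeneousSubmodule ι k n) :
    ((res D hD n x : homogeneousSubmodule ι k n) : MvPolynomial ι k) = D x := rfl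

instance finite_hom (n : ℕ) : Module.Finite k (homogeneousSubmodule ι k n) :=
  Module.Finite.iff_fg.mpr (homogeneousSubmodule_fg ι k n)

lemma PTriple.triple (T : PTriple e f h wt) (n : ℕ) :
    Triple (res e T.e_hom n) (res f T.f_hom n) (res h T.h_hom n) where
  ef w := Subtype.ext (T.comm_ef w)
  he w := Subtype.ext (T.comm_he w)
  hf w := Subtype.ext (T.comm_hf w)
  diag := by
    rw [eq_top_iff]
    rintro ⟨p, hp⟩ -
    have hmon : ∀ s ∈ p.support, monomial s (p.coeff s) ∈ homogeneousSubmodule ι k n := by
      intro s hs
      refine isHomogeneous_monomial _ ?_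
      have := hp (mem_support_iff.mp hs)
      rw [Finsupp.degree_eq_weight_one]; exact this
    classical
    have hsum : (⟨p, hp⟩ : homogeneousSubmodule ι k n) =
        ∑ s ∈ p.support.attach, ⟨monomial (s : ι →₀ ℕ) (p.coeff s), hmon s s.2⟩ := by
      apply Subtype.ext
      rw [AddSubmonoidClass.coe_finsetSum]
      change p = _
      conv_lhs => rw [p.as_sum]
      exact (Finset.sum_attach p.support fun s => monomial s (p.coeff s)).symm
    rw [hsum]
    refine Submodule.sum_mem _ fun s _ => ?_
    obtain ⟨a, ha⟩ := h_monomial T.hX (s : ι →₀ ℕ)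
    refine Submodule.mem_iSup_of_mem a ?_
    rw [Module.End.mem_eigenspace_iff]
    exact Subtype.ext (ha _)

/-- The Casimir operator on the whole polynomial ring. -/
noncomputable def casP (e f h : Derivation k (MvPolynomial ι k) (MvPolynomial ι k)) :
    Module.End k (MvPolynomial ι k) :=
  cas (e : MvPolynomial ι k →ₗ[k] MvPolynomial ι k) (f : MvPolynomial ι k →ₗ[k] MvPolynomial ι k)
    (h : MvPolynomial ι k →ₗ[k] MvPolynomial ι k)

lemma casP_apply (p : MvPolynomial ι k) : casP e f h p = 4 • f (e p) + 2 • h p + h (h p) := rfl

lemma casP_mul (T : PTriple e f h wt) {a : MvPolynomial ι k} (hea : e a = 0) (hfa : f a = 0)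
    (b : MvPolynomial ι k) : casP e f h (b * a) = casP e f h b * a := by
  have hha : h a = 0 := by rw [← T.comm_ef a, hea, hfa, map_zero, map_zero, sub_zero]
  have h1 : ∀ (D : Derivation k (MvPolynomial ι k) (MvPolynomial ι k)) (c : MvPolynomial ι k),
      D a = 0 → D (c * a) = D c * a := by
    intro D c hD
    rw [Derivation.leibniz, hD, smul_zero, zero_add, smul_eq_mul, mul_comm]
  rw [casP_apply, casP_apply, h1 e b hea, h1 f _ hfa, h1 h b hha, h1 h _ hha]
  simp only [add_mul, smul_mul_assoc]

lemma cas_res (T : PTriple e f h wt) (n : ℕ) (x : homogeneousSubmodule ι k n) :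
    ((cas (res e T.e_hom n) (res f T.f_hom n) (res h T.h_hom n) x : homogeneousSubmodule ι k n) :
      MvPolynomial ι k) = casP e f h x := rfl

/-- The subalgebra of invariants. -/
def inv (e f : Derivation k (MvPolynomial ι k) (MvPolynomial ι k)) : Subalgebra k (MvPolynomial ι k) where
  carrier := {p | e p = 0 ∧ f p = 0}
  mul_mem' {a b} ha hb := by
    constructor
    · rw [Derivation.leibniz, ha.1, hb.1, smul_zero, smul_zero, add_zero]
    · rw [Derivation.leibniz, ha.2, hb.2, smul_zero, smul_zero, add_zero]
  add_mem' {a b} ha hb := by
    constructor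
    · rw [map_add, ha.1, hb.1, add_zero]
    · rw [map_add, ha.2, hb.2, add_zero]
  algebraMap_mem' r := ⟨Derivation.map_algebraMap _ _, Derivation.map_algebraMap _ _⟩

lemma mem_inv {p : MvPolynomial ι k} : p ∈ inv e f ↔ e p = 0 ∧ f p = 0 := Iff.rfl

lemma map_homogeneousComponent (D : Derivation k (MvPolynomial ι k) (MvPolynomial ι k))
    (hD : ∀ i, (D (X i)).IsHomogeneous 1) (n : ℕ) (p : MvPolynomial ι k) :
    D (homogeneousComponent n p) = homogeneousComponent n (D p) := by
  conv_rhs => rw [← sum_homogeneousComponent p]
  rw [map_sum, map_sum]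
  by_cases hn : n ∈ Finset.range (p.totalDegree + 1)
  · rw [Finset.sum_eq_single n]
    · rw [homogeneousComponent_of_mem (map_homogeneous D hD n _ (homogeneousComponent_mem n p)), if_pos rfl]
    · intro b _ hb
      rw [homogeneousComponent_of_mem (map_homogeneous D hD b _ (homogeneousComponent_mem b p)),
        if_neg (Ne.symm hb)]
    · intro h; exact absurd hn h
  · rw [homogeneousComponent_eq_zero n p (by simpa using hn), map_zero]
    symm
    refine Finset.sum_eq_zero fun b hb => ?_
    rw [homogeneousComponent_of_mem (map_homogeneous D hD b _ (homogeneousComponent_mem b p)), if_neg]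
    rintro rfl
    exact hn hb

/-- The invariants of a linear `sl₂`-action on a polynomial ring are finitely generated. -/
theorem PTriple.fg_inv (T : PTriple e f h wt) : (inv e f).FG := by
  classical
  -- homogeneous invariants of positive degree
  let G : Set (MvPolynomial ι k) := {p | p ∈ inv e f ∧ ∃ n, 0 < n ∧ p.IsHomogeneous n}
  have hnoeth : (Ideal.span G).FG := (inferInstance : IsNoetherianRing (MvPolynomial ι k)).noetherian _
  obtain ⟨t, htG, ht⟩ := (Submodule.fg_span_iff_fg_span_finset_subset G).mp hnoeth
  have key : ∀ n : ℕ, ∀ p : MvPolynomial ι k, p.IsHomogeneous n → p ∈ inv e f →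
      p ∈ Algebra.adjoin k (t : Set (MvPolynomial ι k)) := by
    intro n
    induction n using Nat.strong_induction_on with
    | _ n ih =>
      intro p hp hpi
      rcases Nat.eq_zero_or_pos n with rfl | hn
      · rw [← mem_homogeneousSubmodule, homogeneousSubmodule_zero, Submodule.mem_one] at hp
        obtain ⟨y, rfl⟩ := hp
        exact Subalgebra.algebraMap_mem _ y
      · have hpG : p ∈ Ideal.span (t : Set (MvPolynomial ι k)) := by
          have : p ∈ Ideal.span G := Ideal.subset_span ⟨hpi, n, hn, hp⟩
          rw [Ideal.span, ht] at this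
          exact this
        obtain ⟨c, hc⟩ := (Submodule.mem_span_finset').mp hpG
        -- degrees of the generators
        have hdeg : ∀ g : t, ∃ m, 0 < m ∧ (g : MvPolynomial ι k).IsHomogeneous m := fun g => (htG g.2).2
        choose d hd0 hdh using hdeg
        -- replace the coefficients by homogeneous ones
        have hc' : p = ∑ g : t, (if d g ≤ n then homogeneousComponent (n - d g) (c g) else 0) * g := by
          have h1 : p = homogeneousComponent n p := by
            rw [homogeneousComponent_of_mem hp, if_pos rfl]
          rw [h1]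
          conv_lhs => rw [← hc]
          rw [map_sum]
          refine Finset.sum_congr rfl fun g _ => ?_
          rw [smul_eq_mul]
          conv_lhs => rw [← sum_homogeneousComponent (c g), Finset.sum_mul, map_sum]
          have h2 : ∀ j, homogeneousComponent j (c g) * (g : MvPolynomial ι k) ∈
              homogeneousSubmodule ι k (j + d g) := fun j =>
            (homogeneousComponent_isHomogeneous j (c g)).mul (hdh g)
          simp only [homogeneousComponent_of_mem (h2 _)]
          split_ifs with hle
          · by_cases hj : n - d g ∈ Finset.range ((c g).totalDegree + 1)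
            · rw [Finset.sum_eq_single (n - d g)]
              · rw [if_pos (by omega)]
              · intro b _ hb
                rw [if_neg (by omega)]
              · intro h; exact absurd hj h
            · rw [homogeneousComponent_eq_zero (n - d g) (c g) (by rw [Finset.mem_range] at hj; omega), zero_mul]
              refine Finset.sum_eq_zero fun b hb => ?_
              rw [if_neg]
              intro hbn
              apply hj
              have : n - d g = b := by omega
              rw [this]; exact hb
          · rw [zero_mul]
            exact Finset.sum_eq_zero fun b _ => if_neg (by omega)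
        -- decompose the coefficients
        have hdec : ∀ g : t, ∃ a b : MvPolynomial ι k, a ∈ inv e f ∧ a.IsHomogeneous (n - d g) ∧
            (if d g ≤ n then homogeneousComponent (n - d g) (c g) else 0) = a + casP e f h b ∧
              (¬ d g ≤ n → a = 0) ∧ b * (g : MvPolynomial ι k) ∈ homogeneousSubmodule ι k n := by
          intro g
          by_cases hle : d g ≤ n
          · rw [if_pos hle]
            obtain ⟨a, b, ha1, ha2, hab⟩ := (T.triple (n - d g)).exists_add
              ⟨homogeneousComponent (n - d g) (c g), homogeneousComponent_mem _ _⟩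
            refine ⟨a, b, ⟨congrArg Subtype.val ha1, congrArg Subtype.val ha2⟩, a.2, ?_, fun h => absurd hle h, ?_⟩
            · exact congrArg Subtype.val hab
            · have := IsHomogeneous.mul (show (b : MvPolynomial ι k).IsHomogeneous (n - d g) from b.2) (hdh g)
              rwa [Nat.sub_add_cancel hle] at this
          · rw [if_neg hle]
            exact ⟨0, 0, Subalgebra.zero_mem _, isHomogeneous_zero _ _ _, by rw [map_zero, add_zero],
              fun _ => rfl, by rw [zero_mul]; exact Submodule.zero_mem _⟩
        choose a b hai hah hab ha0 hbh using hdec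
        have hp2 : p - ∑ g : t, a g * g = casP e f h (∑ g : t, b g * g) := by
          conv_lhs => rw [hc']
          rw [map_sum, ← Finset.sum_sub_distrib]
          refine Finset.sum_congr rfl fun g _ => ?_
          rw [hab g, add_mul, casP_mul T (htG g.2).1.1 (htG g.2).1.2]
          ring
        have hsuminv : ∑ g : t, a g * g ∈ inv e f :=
          Subalgebra.sum_mem _ fun g _ => Subalgebra.mul_mem _ (hai g) (htG g.2).1
        have hleft : p - ∑ g : t, a g * g ∈ inv e f := Subalgebra.sub_mem _ hpi hsuminv
        have hbmem : (∑ g : t, b g * g) ∈ homogeneousSubmodule ι k n :=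
          Submodule.sum_mem _ fun g _ => hbh g
        have hz : casP e f h (∑ g : t, b g * g) = 0 := by
          have h3 := (T.triple n).disjoint (w := ⟨_, hbmem⟩) (by
            apply Subtype.ext
            rw [cas_res T, cas_res T]
            change casP e f h (casP e f h (∑ g : t, b g * g)) = 0
            rw [← hp2]
            have hh : h (p - ∑ g : t, a g * g) = 0 := by
              rw [← T.comm_ef, hleft.1, hleft.2, map_zero, map_zero, sub_zero]
            rw [casP_apply, hleft.1, hh]
            simp)
          exact congrArg Subtype.val h3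
        rw [hz, sub_eq_zero] at hp2
        rw [hp2]
        refine Subalgebra.sum_mem _ fun g _ => ?_
        by_cases hle : d g ≤ n
        · exact Subalgebra.mul_mem _ (ih (n - d g) (by have := hd0 g; omega) _ (hah g) (hai g))
            (Algebra.subset_adjoin g.2)
        · rw [ha0 g hle, zero_mul]; exact Subalgebra.zero_mem _
  refine ⟨t, le_antisymm ?_ ?_⟩
  · exact Algebra.adjoin_le fun g hg => (htG hg).1
  · intro p hp
    rw [← sum_homogeneousComponent p]
    refine Subalgebra.sum_mem _ fun n _ => key n _ (homogeneousComponent_isHomogeneous n p) ?_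
    rw [mem_inv, map_homogeneousComponent e T.e_hom, map_homogeneousComponent f T.f_hom, hp.1, hp.2,
      map_zero]
    exact ⟨rfl, rfl⟩

end K101.PolyTriple
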