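import Mathlib.LinearAlgebra.Eigenspace.Basic
import Mathlib.LinearAlgebra.DFinsupp
import Mathlib.LinearAlgebra.FiniteDimensional.Lemmas
import Mathlib.RingTheory.Noetherian.Basic
import Mathlib.Algebra.CharZero.Defs
import Mathlib.Tactic

/-! Elementary `sl₂` theory on a finite dimensional space over a field of characteristic zero: the Casimir
operator `C = 4 f e + 2 h + h²` has `ker C = invariants` and `ker C ⊕ range C = ⊤`. -/

set_option autoImplicit false
set_option linter.unusedSectionVars false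
set_option linter.unusedVariables false

namespace K101.SlTwo

open Module Module.End

variable {k W : Type*} [Field k] [CharZero k] [AddCommGroup W] [Module k W]

/-- An `sl₂`-triple of operators, with `h` diagonalisable with integral eigenvalues. -/
structure Triple (e f h : Module.End k W) : Prop where
  ef : ∀ w, e (f w) - f (e w) = h w
  he : ∀ w, h (e w) - e (h w) = 2 • e w
  hf : ∀ w, h (f w) - f (h w) = - (2 • f w)
  diag : ⨆ a : ℤ, eigenspace h (a : k) = ⊤

/-- The Casimir operator. -/
def cas (e f h : Module.End k W) : Module.End k W := 4 • (f * e) + 2 • h + h * h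

lemma cas_apply (e f h : Module.End k W) (w : W) : cas e f h w = 4 • f (e w) + 2 • h w + h (h w) := rfl

variable {e f h : Module.End k W}

lemma Triple.symm (T : Triple e f h) : Triple f e (-h) where
  ef w := by rw [LinearMap.neg_apply, ← T.ef w]; abel
  he w := by
    have := T.hf w
    simp only [LinearMap.neg_apply, map_neg]
    rw [← neg_eq_iff_eq_neg] at this
    rw [← this]; abel
  hf w := by
    have := T.he w
    simp only [LinearMap.neg_apply, map_neg]
    rw [← this]; abel
  diag := by
    have : ∀ a : ℤ, eigenspace (-h) ((a : ℤ) : k) = eigenspace h ((-a : ℤ) : k) := by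
      intro a
      ext w
      simp only [mem_eigenspace_iff, LinearMap.neg_apply, Int.cast_neg, neg_smul]
      constructor
      · intro hw; rw [← hw, neg_neg]
      · intro hw; rw [hw, neg_neg]
    rw [← T.diag]
    apply le_antisymm
    · refine iSup_le fun a => ?_
      rw [this a]
      exact le_iSup (fun a : ℤ => eigenspace h (a : k)) (-a)
    · refine iSup_le fun a => ?_
      have h2 := this (-a)
      rw [neg_neg] at h2
      rw [← h2]
      exact le_iSup (fun a : ℤ => eigenspace (-h) (a : k)) (-a)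

lemma Triple.cas_symm (T : Triple e f h) : cas f e (-h) = cas e f h := by
  ext w
  simp only [cas_apply, LinearMap.neg_apply, map_neg, neg_neg]
  have h1 : e (f w) = f (e w) + h w := by rw [← T.ef w]; abel
  rw [h1]
  module

lemma Triple.h_e (T : Triple e f h) (w : W) : h (e w) = e (h w) + 2 • e w := by
  rw [← T.he w]; abel

lemma Triple.h_f (T : Triple e f h) (w : W) : h (f w) = f (h w) - 2 • f w := by
  have := T.hf w
  rw [sub_eq_iff_eq_add] at this
  rw [this]; abel

lemma Triple.cas_e (T : Triple e f h) (w : W) : cas e f h (e w) = e (cas e f h w) := by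
  simp only [cas_apply, map_add, map_nsmul]
  have h1 : e (f (e w)) = f (e (e w)) + h (e w) := by rw [← T.ef (e w)]; abel
  rw [h1, T.h_e w]
  simp only [map_add, map_nsmul]
  rw [T.h_e (h w), T.h_e w]
  module

lemma Triple.cas_f (T : Triple e f h) (w : W) : cas e f h (f w) = f (cas e f h w) := by
  rw [← T.cas_symm]
  exact T.symm.cas_e w

lemma Triple.cas_h (T : Triple e f h) (w : W) : cas e f h (h w) = h (cas e f h w) := by
  have h1 : h w = e (f w) - f (e w) := (T.ef w).symm
  rw [h1, map_sub, T.cas_e, T.cas_f, T.cas_f, T.cas_e, T.ef]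

lemma Triple.e_mem (T : Triple e f h) {w : W} {a : ℤ} (hw : h w = (a : k) • w) :
    h (e w) = ((a + 2 : ℤ) : k) • e w := by
  rw [T.h_e, hw, map_smul]
  push_cast
  module

lemma Triple.e_pow_mem (T : Triple e f h) {w : W} {a : ℤ} (hw : h w = (a : k) • w) (j : ℕ) :
    h ((e ^ j) w) = ((a + 2 * j : ℤ) : k) • (e ^ j) w := by
  induction j with
  | zero => simpa using hw
  | succ j ih =>
    rw [pow_succ', Module.End.mul_apply, T.e_mem ih]
    push_cast
    ring_nf

/-- Eigenspaces vanish outside a finite range. -/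
lemma exists_bound [FiniteDimensional k W] (h : Module.End k W) :
    ∃ N : ℕ, ∀ a : ℤ, N < a.natAbs → eigenspace h (a : k) = ⊥ := by
  have hfin : Set.Finite {a : ℤ | eigenspace h (a : k) ≠ ⊥} := by
    have h1 : iSupIndep (fun a : ℤ => eigenspace h (a : k)) :=
      (Module.End.eigenspaces_iSupIndep h).comp (f := fun a : ℤ => (a : k)) Int.cast_injective
    exact Submodule.finite_ne_bot_of_iSupIndep h1
  obtain ⟨N, hN⟩ := (hfin.image Int.natAbs).bddAbove
  refine ⟨N, fun a ha => ?_⟩
  by_contra hne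
  exact absurd (hN ⟨a, hne, rfl⟩) (by omega)

lemma Triple.exists_e_pow_eq_zero [FiniteDimensional k W] (T : Triple e f h) {w : W} {a : ℤ}
    (hw : h w = (a : k) • w) : ∃ j : ℕ, (e ^ j) w = 0 := by
  obtain ⟨N, hN⟩ := exists_bound h
  refine ⟨N + a.natAbs + 1, ?_⟩
  have h1 := T.e_pow_mem hw (N + a.natAbs + 1)
  have h2 := hN (a + 2 * ((N + a.natAbs + 1 : ℕ) : ℤ)) (by omega)
  rw [← mem_eigenspace_iff, h2, Submodule.mem_bot] at h1
  exact h1

lemma Triple.exists_last [FiniteDimensional k W] (T : Triple e f h) {w : W} {a : ℤ}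
    (hw : h w = (a : k) • w) (hne : w ≠ 0) : ∃ j : ℕ, (e ^ j) w ≠ 0 ∧ e ((e ^ j) w) = 0 := by
  classical
  have hex := T.exists_e_pow_eq_zero hw
  have hpos : Nat.find hex ≠ 0 := by
    intro h0
    have := Nat.find_spec hex
    rw [h0] at this
    exact hne (by simpa using this)
  obtain ⟨m, hm⟩ := Nat.exists_eq_succ_of_ne_zero hpos
  refine ⟨m, ?_, ?_⟩
  · exact Nat.find_min hex (by omega)
  · have := Nat.find_spec hex
    rw [hm, Nat.succ_eq_add_one, pow_succ', Module.End.mul_apply] at this
    exact this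

/-- `e f^(m+1) v = (m+1)(b-m) f^m v` on a highest weight vector. -/
lemma Triple.e_f_pow (T : Triple e f h) {v : W} {b : ℤ} (hv : h v = (b : k) • v) (hev : e v = 0) (m : ℕ) :
    e ((f ^ (m + 1)) v) = (((m + 1) * (b - m) : ℤ) : k) • (f ^ m) v := by
  induction m with
  | zero =>
    have := T.ef v
    rw [hev, map_zero, sub_zero] at this
    rw [zero_add, pow_one, this, hv]
    simp
  | succ m ih =>
    have h1 : h ((f ^ (m + 1)) v) = ((b - 2 * (m + 1 : ℕ) : ℤ) : k) • (f ^ (m + 1)) v := by
      have h2 : (-h) v = ((-b : ℤ) : k) • v := by rw [LinearMap.neg_apply, hv]; push_cast; module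
      have h3 := T.symm.e_pow_mem h2 (m + 1)
      rw [LinearMap.neg_apply] at h3
      rw [neg_eq_iff_eq_neg] at h3
      rw [h3, ← neg_smul]
      push_cast
      ring_nf
    have h4 := T.ef ((f ^ (m + 1)) v)
    rw [pow_succ' f (m + 1), Module.End.mul_apply]
    rw [sub_eq_iff_eq_add] at h4
    rw [h4, h1, ih, map_smul, ← Module.End.mul_apply f, ← pow_succ']
    push_cast
    module

/-- A highest weight vector has weight a natural number `b` and is killed by `f^(b+1)`. -/
lemma Triple.highest [FiniteDimensional k W] (T : Triple e f h) {v : W} {b : ℤ} (hv : h v = (b : k) • v)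
    (hev : e v = 0) (hne : v ≠ 0) : ∃ m : ℕ, b = m ∧ (f ^ (m + 1)) v = 0 := by
  have h2 : (-h) v = ((-b : ℤ) : k) • v := by rw [LinearMap.neg_apply, hv]; push_cast; module
  obtain ⟨m, hm1, hm2⟩ := T.symm.exists_last h2 hne
  have h3 := T.e_f_pow hv hev m
  rw [pow_succ', Module.End.mul_apply, hm2, map_zero] at h3
  have h4 : (((m + 1) * (b - m) : ℤ) : k) = 0 := by
    rcases smul_eq_zero.mp h3.symm with h | h
    · exact h
    · exact absurd h hm1
  have h5 : ((m + 1) * (b - m) : ℤ) = 0 := by exact_mod_cast h4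
  have h6 : b = m := by
    rcases mul_eq_zero.mp h5 with h | h
    · omega
    · omega
  refine ⟨m, h6, ?_⟩
  rw [pow_succ', Module.End.mul_apply, hm2]

lemma Triple.cas_highest (T : Triple e f h) {v : W} {b : ℤ} (hv : h v = (b : k) • v) (hev : e v = 0) :
    cas e f h v = ((b * (b + 2) : ℤ) : k) • v := by
  rw [cas_apply, hev, map_zero, hv, map_smul, hv]
  push_cast
  module

/-- Weight vectors killed by `C²` are killed by `e`. -/
lemma Triple.e_eq_zero_of_weight [FiniteDimensional k W] (T : Triple e f h) {w : W} {a : ℤ}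
    (hw : h w = (a : k) • w) (hc : cas e f h (cas e f h w) = 0) : e w = 0 := by
  by_contra hne
  -- highest weight vector in the chain of `e w`
  have hcc : ∀ (j : ℕ) (x : W), cas e f h ((e ^ j) x) = (e ^ j) (cas e f h x) := by
    intro j x
    induction j with
    | zero => rfl
    | succ j ih => rw [pow_succ', Module.End.mul_apply, T.cas_e, ih, Module.End.mul_apply]
  have hccf : ∀ (j : ℕ) (x : W), cas e f h ((f ^ j) x) = (f ^ j) (cas e f h x) := by
    intro j x
    induction j with
    | zero => rfl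
    | succ j ih => rw [pow_succ', Module.End.mul_apply, T.cas_f, ih, Module.End.mul_apply]
  obtain ⟨j, hj1, hj2⟩ := T.exists_last (T.e_mem hw) hne
  have hv : h ((e ^ j) (e w)) = ((a + 2 + 2 * j : ℤ) : k) • (e ^ j) (e w) := T.e_pow_mem (T.e_mem hw) j
  have hCv := T.cas_highest hv hj2
  have hCCv : cas e f h (cas e f h ((e ^ j) (e w))) = 0 := by
    rw [hcc, hcc, T.cas_e, T.cas_e, hc, map_zero, map_zero]
  rw [hCv, map_smul, hCv, smul_smul, ← Int.cast_mul] at hCCv
  have h0 : (((a + 2 + 2 * j) * (a + 2 + 2 * j + 2) * ((a + 2 + 2 * j) * (a + 2 + 2 * j + 2)) : ℤ) : k) = 0 := by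
    rcases smul_eq_zero.mp hCCv with h | h
    · exact h
    · exact absurd h hj1
  have h1 : ((a + 2 + 2 * j) * (a + 2 + 2 * j + 2) * ((a + 2 + 2 * j) * (a + 2 + 2 * j + 2)) : ℤ) = 0 := by
    exact_mod_cast h0
  obtain ⟨m, hm, -⟩ := T.highest hv hj2 hj1
  have h2 : a + 2 + 2 * (j : ℤ) = 0 := by
    rw [hm] at h1
    have : (m : ℤ) * (m + 2) = 0 := by
      rcases mul_eq_zero.mp h1 with h | h <;> exact h
    rcases mul_eq_zero.mp this with h | h
    · omega
    · omega
  -- lowest weight vector in the chain of `w`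
  have hwne : w ≠ 0 := fun h => hne (by rw [h, map_zero])
  have h3 : (-h) w = ((-a : ℤ) : k) • w := by rw [LinearMap.neg_apply, hw]; push_cast; module
  obtain ⟨i, hi1, hi2⟩ := T.symm.exists_last h3 hwne
  have hu := T.symm.e_pow_mem h3 i
  have hCu := T.symm.cas_highest hu hi2
  rw [T.cas_symm] at hCu
  have hCCu : cas e f h (cas e f h ((f ^ i) w)) = 0 := by
    rw [hccf, hccf, hc, map_zero]
  rw [hCu, map_smul, hCu, smul_smul, ← Int.cast_mul] at hCCu
  have h4 : (((-a + 2 * i) * (-a + 2 * i + 2) * ((-a + 2 * i) * (-a + 2 * i + 2)) : ℤ) : k) = 0 := by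
    rcases smul_eq_zero.mp hCCu with h | h
    · exact h
    · exact absurd h hi1
  have h5 : ((-a + 2 * i) * (-a + 2 * i + 2) * ((-a + 2 * i) * (-a + 2 * i + 2)) : ℤ) = 0 := by
    exact_mod_cast h4
  have h6 : 0 < -a + 2 * (i : ℤ) := by omega
  have : 0 < ((-a + 2 * i) * (-a + 2 * i + 2) * ((-a + 2 * i) * (-a + 2 * i + 2)) : ℤ) := by positivity
  omega

/-- `ker C²` is killed by `e` and `f`. -/
theorem Triple.eq_zero_of_cas [FiniteDimensional k W] (T : Triple e f h) {w : W}
    (hc : cas e f h (cas e f h w) = 0) : e w = 0 ∧ f w = 0 := by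
  classical
  have hmem : w ∈ ⨆ a : ℤ, eigenspace h (a : k) := by rw [T.diag]; trivial
  obtain ⟨x, hx, hxw⟩ := (Submodule.mem_iSup_iff_exists_finsupp _ _).mp hmem
  have hind : iSupIndep (fun a : ℤ => eigenspace h (a : k)) :=
    (Module.End.eigenspaces_iSupIndep h).comp (f := fun a : ℤ => (a : k)) Int.cast_injective
  rw [iSupIndep_iff_finsetSum_eq_zero_imp_eq_zero] at hind
  have hz : ∀ a ∈ x.support, cas e f h (cas e f h (x a)) = 0 := by
    refine hind x.support (fun a => cas e f h (cas e f h (x a))) ?_ ?_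
    · intro a _
      rw [mem_eigenspace_iff, ← T.cas_h, ← T.cas_h, (mem_eigenspace_iff.mp (hx a)), map_smul, map_smul]
    · rw [← hxw, Finsupp.sum] at hc
      rw [← map_sum, ← map_sum]
      exact hc
  constructor
  · rw [← hxw, Finsupp.sum, map_sum]
    exact Finset.sum_eq_zero fun a ha => T.e_eq_zero_of_weight (mem_eigenspace_iff.mp (hx a)) (hz a ha)
  · rw [← hxw, Finsupp.sum, map_sum]
    refine Finset.sum_eq_zero fun a ha => ?_
    have h3 : (-h) (x a) = ((-a : ℤ) : k) • (x a) := by
      rw [LinearMap.neg_apply, mem_eigenspace_iff.mp (hx a)]; push_cast; module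
    refine T.symm.e_eq_zero_of_weight h3 ?_
    rw [T.cas_symm]
    exact hz a ha

lemma Triple.cas_eq_zero (T : Triple e f h) {w : W} (he : e w = 0) (hf : f w = 0) : cas e f h w = 0 := by
  have hh : h w = 0 := by rw [← T.ef w, he, hf, map_zero, map_zero, sub_zero]
  rw [cas_apply, he, hh]
  simp

theorem Triple.cas_eq_zero_iff [FiniteDimensional k W] (T : Triple e f h) {w : W} :
    cas e f h w = 0 ↔ e w = 0 ∧ f w = 0 :=
  ⟨fun hc => T.eq_zero_of_cas (by rw [hc, map_zero]), fun ⟨h1, h2⟩ => T.cas_eq_zero h1 h2⟩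

theorem Triple.disjoint [FiniteDimensional k W] (T : Triple e f h) {w : W}
    (hc : cas e f h (cas e f h w) = 0) : cas e f h w = 0 :=
  T.cas_eq_zero (T.eq_zero_of_cas hc).1 (T.eq_zero_of_cas hc).2

/-- Every vector is an invariant plus an element of the image of the Casimir operator. -/
theorem Triple.exists_add [FiniteDimensional k W] (T : Triple e f h) (w : W) :
    ∃ a b : W, e a = 0 ∧ f a = 0 ∧ w = a + cas e f h b := by
  have hdis : Disjoint (LinearMap.ker (cas e f h)) (LinearMap.range (cas e f h)) := by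
    rw [Submodule.disjoint_def]
    rintro _ h1 ⟨y, rfl⟩
    exact T.disjoint h1
  have htop := Submodule.eq_top_of_disjoint _ _ (by
    rw [add_comm]; exact (cas e f h).finrank_range_add_finrank_ker.ge) hdis
  have hw : w ∈ LinearMap.ker (cas e f h) ⊔ LinearMap.range (cas e f h) := by rw [htop]; trivial
  obtain ⟨a, ha, _, ⟨b, rfl⟩, hab⟩ := Submodule.mem_sup.mp hw
  exact ⟨a, b, (T.cas_eq_zero_iff.mp ha).1, (T.cas_eq_zero_iff.mp ha).2, hab.symm⟩

end K101.SlTwo
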