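import Groth.Agent.AGF.K101.GeomRedSub

/-!
# Connected unipotent geometrically reductive groups are trivial
-/

set_option autoImplicit false
set_option linter.unusedSectionVars false

universe u w w'

open TensorProduct Groth.Agent.Sga3B.RG Polynomial K497.Rat K495.ObsPt

namespace K101.UnipGR

variable {K : Type u} [Field K] {A : Type u} [CommRing A] [HopfAlgebra K A]
  [IsAlgClosed K] [Algebra.FiniteType K A] [IsReduced A]

/-- A nontrivial unipotent group has a nonconstant additive function. -/
theorem exists_add_char (hu : ∀ p : Pt K A, IsUnip p) {p : Pt K A} (hp : p ≠ 1) :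
    ∃ (χ : A), (∀ g h : Pt K A, (g * h) χ = g χ + h χ) ∧ ∃ g : Pt K A, g χ ≠ 0 := by
  have hrat : IsRat (toRep (rTrHom K A)) := isRatA_rTrHom.isRat
  let L : Submodule K A := Submodule.span K {(1 : A)}
  have hL : ∀ g, L ≤ L.comap (toRep (rTrHom K A) g) := by
    intro g
    rw [Submodule.span_le, Set.singleton_subset_iff]
    change rTr g (1 : A) ∈ L
    rw [map_one]
    exact Submodule.mem_span_singleton_self 1
  obtain ⟨a, ha⟩ : ∃ a : A, p a ≠ (1 : Pt K A) a := by
    by_contra! hcon
    apply hp
    apply WithConv.ofConv_injective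
    exact AlgHom.ext hcon
  have haL : a ∉ L := by
    intro h
    obtain ⟨c, rfl⟩ := Submodule.mem_span_singleton.1 h
    rw [Pt.apply_smul, Pt.apply_smul, Pt.apply_one, Pt.apply_one] at ha
    exact ha rfl
  have htop : (⊤ : Submodule K (A ⧸ L)) ≠ ⊥ := by
    intro h
    have h1 : L.mkQ a ∈ (⊤ : Submodule K (A ⧸ L)) := trivial
    rw [h, Submodule.mem_bot] at h1
    exact haL ((Submodule.Quotient.mk_eq_zero L).1 h1)
  obtain ⟨v, -, hv0, hv⟩ := (hrat.quotient L hL).exists_fixed (U := ⊤) (fun g _ => hu g) ⊤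
    (fun _ _ _ _ => trivial) htop
  obtain ⟨f, rfl⟩ := L.mkQ_surjective v
  have hf : ∀ g : Pt K A, ∃ c : K, c • (1 : A) = rTr g f - f := by
    intro g
    have h1 := hv g trivial
    change L.mkQ (rTr g f) = L.mkQ f at h1
    rw [← sub_eq_zero, ← map_sub] at h1
    exact Submodule.mem_span_singleton.1 ((Submodule.Quotient.mk_eq_zero L).1 h1)
  choose c hc using hf
  have hc' : ∀ g x : Pt K A, (x * g) f = x f + c g := by
    intro g x
    have h1 : x (rTr g f - f) = c g := by
      rw [← hc, Pt.apply_smul, Pt.apply_one, _root_.mul_one]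
    rw [Pt.apply_sub, rTr_apply_pt] at h1
    rw [← h1]; ring
  have hcf : ∀ g : Pt K A, g (f - algebraMap K A ((1 : Pt K A) f)) = c g := by
    intro g
    have h1 := hc' g 1
    rw [_root_.one_mul] at h1
    rw [Pt.apply_sub, Pt.apply_algebraMap, h1]; ring
  refine ⟨f - algebraMap K A ((1 : Pt K A) f), fun g h => ?_, ?_⟩
  · rw [hcf, hcf, hcf]
    have h1 := hc' (g * h) 1
    have h2 := hc' g 1
    have h3 := hc' h g
    rw [_root_.one_mul] at h1 h2
    rw [h3, h2] at h1
    exact (add_left_cancel (a := (1 : Pt K A) f) (by rw [← h1]; ring)).symm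
  · by_contra! hcon
    apply hv0
    have h1 : f = algebraMap K A ((1 : Pt K A) f) := by
      rw [← sub_eq_zero]
      exact eq_zero_of_forall_pt (K := K) hcon
    rw [Submodule.mkQ_apply, Submodule.Quotient.mk_eq_zero]
    rw [h1, Algebra.algebraMap_eq_smul_one]
    exact L.smul_mem _ (Submodule.mem_span_singleton_self 1)

/-- The representation attached to an additive function. -/
noncomputable def addRep {χ : A} (hχ : ∀ g h : Pt K A, (g * h) χ = g χ + h χ) :
    Representation K (Pt K A) (K × K) where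
  toFun g := LinearMap.prod (LinearMap.fst K K K + g χ • LinearMap.snd K K K) (LinearMap.snd K K K)
  map_one' := by
    have h1 : (1 : Pt K A) χ = 0 := by
      have := hχ 1 1
      rw [_root_.mul_one] at this
      exact left_eq_add.1 this
    rw [h1]
    apply LinearMap.ext
    intro x
    simp
  map_mul' g h := by
    rw [hχ]
    apply LinearMap.ext
    intro x
    apply Prod.ext
    · change x.1 + (g χ + h χ) * x.2 = (x.1 + h χ * x.2) + g χ * x.2
      ring
    · rfl

lemma addRep_apply {χ : A} (hχ : ∀ g h : Pt K A, (g * h) χ = g χ + h χ) (g : Pt K A) (x : K × K) :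
    addRep hχ g x = (x.1 + g χ * x.2, x.2) := rfl

lemma isAlg_addRep {χ : A} (hχ : ∀ g h : Pt K A, (g * h) χ = g χ + h χ) : IsAlg (addRep hχ) := by
  intro f x
  refine ⟨algebraMap K A (f x) + (x.2 * f (1, 0)) • χ, fun g => ?_⟩
  rw [addRep_apply, Pt.apply_add, Pt.apply_algebraMap, Pt.apply_smul]
  have h1 : ((x.1 + g χ * x.2, x.2) : K × K) = x + (g χ * x.2) • ((1, 0) : K × K) := by
    apply Prod.ext <;> simp
  rw [h1, map_add, map_smul, smul_eq_mul]
  ring

/-- **A connected unipotent geometrically reductive group is trivial.** -/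
theorem eq_one_of_geomRed (hG : GeomRed K A) (hconn : IsConn (Set.univ : Set (Pt K A)))
    (hu : ∀ p : Pt K A, IsUnip p) (p : Pt K A) : p = 1 := by
  by_contra hp
  obtain ⟨χ, hχ, g₀, hg₀⟩ := exists_add_char hu hp
  -- infinitely many values
  have hinf : (Set.range fun g : Pt K A => g χ).Infinite := by
    intro hfin
    have h1 := (isAlg_addRep hχ).fix_of_finite hconn trivial (0, 1) (by
      refine (hfin.image (fun c : K => ((c, 1) : K × K))).subset ?_
      rintro _ ⟨g, -, rfl⟩
      refine ⟨g χ, ⟨g, rfl⟩, ?_⟩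
      change _ = addRep hχ g (0, 1)
      rw [addRep_apply]
      apply Prod.ext <;> simp) g₀ trivial
    rw [addRep_apply] at h1
    have h2 := congrArg Prod.fst h1
    simp at h2
    exact hg₀ h2
  obtain ⟨n, hn, F, hF, hFX⟩ := hG (K × K) (addRep hχ) (isAlg_addRep hχ) (LinearMap.snd K K K)
    (fun g v => rfl) (fun h0 => one_ne_zero (LinearMap.congr_fun h0 ((0, 1) : K × K)))
  -- the comparison with polynomials
  let ξ (c : K) : SymmetricAlgebra K (K × K) →ₐ[K] K[X][X] :=
    SymmetricAlgebra.lift
      ((LinearMap.toSpanSingleton K K[X][X] (C X)) ∘ₗ LinearMap.fst K K K +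
        (LinearMap.toSpanSingleton K K[X][X] (X + C (C c * X))) ∘ₗ LinearMap.snd K K K)
  have hξ : ∀ c v, ξ c (SymmetricAlgebra.ι K (K × K) v) =
      v.1 • (C X : K[X][X]) + v.2 • (X + C (C c * X) : K[X][X]) := by
    intro c v
    simp [ξ, LinearMap.toSpanSingleton_apply]
  -- translation
  have h1 : ∀ g : Pt K A, (ξ 0).comp (symAct (addRep hχ) g) = ξ (g χ) := by
    intro g
    apply SymmetricAlgebra.algHom_ext
    apply LinearMap.ext
    intro v
    change ξ 0 (symAct (addRep hχ) g (SymmetricAlgebra.ι K (K × K) v)) =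
      ξ (g χ) (SymmetricAlgebra.ι K (K × K) v)
    rw [symAct_ι, hξ, hξ, addRep_apply]
    simp only [map_zero, zero_mul, add_zero, map_mul, map_add,
      Algebra.smul_def, Polynomial.algebraMap_apply, Polynomial.algebraMap_eq]
    ring
  have h2 : ∀ c : K, ∀ S, ξ c S = ((ξ 0 S).comp (X + C (C c * X))) := by
    intro c S
    let θ : K[X][X] →ₐ[K] K[X][X] := ((Polynomial.aeval (X + C (C c * X) : K[X][X])).restrictScalars K)
    have h3 : θ.comp (ξ 0) = ξ c := by
      apply SymmetricAlgebra.algHom_ext
      apply LinearMap.ext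
      intro v
      change θ (ξ 0 (SymmetricAlgebra.ι K (K × K) v)) = ξ c (SymmetricAlgebra.ι K (K × K) v)
      rw [hξ, hξ, map_add, map_smul, map_smul]
      congr 2
      · change aeval (X + C (C c * X) : K[X][X]) (C X : K[X][X]) = _
        rw [aeval_C]; rfl
      · change aeval (X + C (C c * X) : K[X][X]) (X + C (C 0 * X) : K[X][X]) = _
        rw [map_zero, zero_mul, map_zero, add_zero, aeval_X]
    have h4 := DFunLike.congr_fun h3 S
    rw [AlgHom.comp_apply] at h4
    rw [← h4]
    rfl
  set P := ξ 0 F with hP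
  have h3 : ∀ g : Pt K A, P.eval (C (g χ) * X) = P.eval 0 := by
    intro g
    have h4 := DFunLike.congr_fun (h1 g) F
    rw [AlgHom.comp_apply, hF g, h2 (g χ) F, ← hP] at h4
    have h5 := congrArg (Polynomial.eval 0) h4
    rw [Polynomial.eval_comp] at h5
    simp only [eval_add, eval_X, eval_C, zero_add] at h5
    exact h5.symm
  have h4 : P = C (P.eval 0) := by
    apply Polynomial.eq_of_infinite_eval_eq
    refine Set.Infinite.mono ?_ (hinf.image (f := fun c : K => (C c * X : K[X])) ?_)
    · rintro _ ⟨_, ⟨g, rfl⟩, rfl⟩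
      rw [Set.mem_ofPred_eq, eval_C]
      exact h3 g
    · intro a _ b _ hab
      have h5 := congrArg (fun q : K[X] => q.coeff 1) hab
      simpa using h5
  -- restriction to the line
  have h5 : (Polynomial.mapAlgHom (Polynomial.aeval (0 : K))).comp (ξ 0) = symTo (LinearMap.snd K K K) := by
    apply SymmetricAlgebra.algHom_ext
    apply LinearMap.ext
    intro v
    change (Polynomial.mapAlgHom (Polynomial.aeval (0 : K))) (ξ 0 (SymmetricAlgebra.ι K (K × K) v)) =
      symTo (LinearMap.snd K K K) (SymmetricAlgebra.ι K (K × K) v)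
    rw [hξ, symTo_ι, map_add, map_smul, map_smul]
    simp
  have h6 := DFunLike.congr_fun h5 F
  rw [AlgHom.comp_apply, hFX, ← hP, h4] at h6
  have h7 := congrArg Polynomial.natDegree h6
  rw [natDegree_X_pow] at h7
  have h8 : (Polynomial.mapAlgHom (Polynomial.aeval (0 : K))) (C (P.eval 0)) =
      C ((Polynomial.aeval (0 : K)) (P.eval 0)) := by
    change Polynomial.map _ (C (P.eval 0)) = _
    rw [Polynomial.map_C]
    rfl
  rw [h8, natDegree_C] at h7
  omega

end K101.UnipGR
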