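import Groth.Agent.AGF.K101.KerFG
import Groth.Agent.AGF.K101.JordanNil

/-! **Weitzenböck's theorem**: the kernel of a linear locally nilpotent derivation of a polynomial ring over a
field of characteristic zero is finitely generated. -/

set_option autoImplicit false
set_option linter.unusedSectionVars false

noncomputable section

namespace K101.Weitz

open MvPolynomial Module K101.SlTwo K101.PolyTriple K101.KerFG

variable {k : Type*} [Field k] {d : ℕ} (K : Fin d → ℕ)

/-- extended variables -/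
def ext (i : Fin d) (n : ℕ) : MvPolynomial (Σ i : Fin d, Fin (K i)) k :=
  if hn : n < K i then X ⟨i, ⟨n, hn⟩⟩ else 0

/-- raising -/
def eJ : Derivation k (MvPolynomial (Σ i : Fin d, Fin (K i)) k) (MvPolynomial (Σ i : Fin d, Fin (K i)) k) :=
  mkDerivation k (fun s => ext K s.1 (s.2 + 1))
/-- lowering -/
def fJ : Derivation k (MvPolynomial (Σ i : Fin d, Fin (K i)) k) (MvPolynomial (Σ i : Fin d, Fin (K i)) k) :=
  mkDerivation k (fun s => (((s.2 : ℕ) : k) * ((K s.1 : k) - ((s.2 : ℕ) : k))) • ext K s.1 (s.2 - 1))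
/-- weights -/
def hJ : Derivation k (MvPolynomial (Σ i : Fin d, Fin (K i)) k) (MvPolynomial (Σ i : Fin d, Fin (K i)) k) :=
  mkDerivation k (fun s => ((2 * (s.2 : ℕ) + 1 - K s.1 : ℤ) : k) • X s)

lemma ext_of_lt {i : Fin d} {n : ℕ} (hn : n < K i) : (ext K i n : MvPolynomial _ k) = X ⟨i, ⟨n, hn⟩⟩ := by
  rw [ext, dif_pos hn]
lemma ext_of_le {i : Fin d} {n : ℕ} (hn : K i ≤ n) : (ext K i n : MvPolynomial _ k) = 0 := by
  rw [ext, dif_neg (by omega)]

lemma ext_coe (i : Fin d) (j : Fin (K i)) : (ext K i j : MvPolynomial _ k) = X ⟨i, j⟩ := by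
  rw [ext_of_lt K j.2]

lemma eJ_ext (i : Fin d) (n : ℕ) : eJ K (ext K i n : MvPolynomial _ k) = ext K i (n + 1) := by
  by_cases hn : n < K i
  · rw [ext_of_lt K hn, eJ, mkDerivation_X]
  · rw [ext_of_le K (by omega), ext_of_le K (by omega), map_zero]

lemma fJ_ext (i : Fin d) (n : ℕ) : fJ K (ext K i n : MvPolynomial _ k) =
    ((n : k) * ((K i : k) - (n : k))) • ext K i (n - 1) := by
  by_cases hn : n < K i
  · rw [ext_of_lt K hn, fJ, mkDerivation_X]
  · rw [ext_of_le K (by omega), map_zero]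
    rcases eq_or_ne n (K i) with h | h
    · rw [h, sub_self, mul_zero, zero_smul]
    · rw [ext_of_le K (by omega), smul_zero]

lemma hJ_ext (i : Fin d) (n : ℕ) : hJ K (ext K i n : MvPolynomial _ k) =
    ((2 * n + 1 - K i : ℤ) : k) • ext K i n := by
  by_cases hn : n < K i
  · rw [ext_of_lt K hn, hJ, mkDerivation_X]
  · rw [ext_of_le K (by omega), map_zero, smul_zero]

lemma ext_hom (i : Fin d) (n : ℕ) : (ext K i n : MvPolynomial _ k).IsHomogeneous 1 := by
  by_cases hn : n < K i
  · rw [ext_of_lt K hn]; exact isHomogeneous_X _ _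
  · rw [ext_of_le K (by omega)]; exact isHomogeneous_zero _ _ _

lemma ptriple [CharZero k] : PTriple (k := k) (eJ K) (fJ K) (hJ K) (fun s => 2 * (s.2 : ℕ) + 1 - K s.1) where
  ef := by
    rintro ⟨i, j⟩
    rw [← ext_coe, eJ_ext, fJ_ext, fJ_ext, hJ_ext, Derivation.map_smul, eJ_ext]
    rcases Nat.eq_zero_or_pos (j : ℕ) with h | h
    · rw [h, Nat.add_sub_cancel]
      push_cast
      module
    · rw [Nat.add_sub_cancel, Nat.sub_add_cancel h]
      push_cast
      module
  he := by
    rintro ⟨i, j⟩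
    rw [← ext_coe, eJ_ext, hJ_ext, hJ_ext, Derivation.map_smul, eJ_ext]
    push_cast
    module
  hf := by
    rintro ⟨i, j⟩
    rw [← ext_coe, fJ_ext, hJ_ext, Derivation.map_smul, Derivation.map_smul, hJ_ext, fJ_ext]
    rcases Nat.eq_zero_or_pos (j : ℕ) with h | h
    · rw [h]
      push_cast
      module
    · rw [Nat.cast_sub h]
      push_cast
      module
  hX := by
    rintro ⟨i, j⟩
    rw [hJ, mkDerivation_X]
  e_hom := by
    rintro ⟨i, j⟩
    rw [eJ, mkDerivation_X]
    exact ext_hom K _ _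
  f_hom := by
    rintro ⟨i, j⟩
    rw [fJ, mkDerivation_X]
    exact Submodule.smul_mem (homogeneousSubmodule _ k 1) _ (ext_hom K _ _)

theorem weitzenboeck [CharZero k] (n : ℕ) (M : Matrix (Fin n) (Fin n) k) (hM : IsNilpotent M) :
    ∃ S : Subalgebra k (MvPolynomial (Fin n) k), S.FG ∧
      ∀ f : MvPolynomial (Fin n) k, f ∈ S ↔
        MvPolynomial.mkDerivation k (fun j : Fin n => ∑ i : Fin n, M i j • (MvPolynomial.X i : MvPolynomial (Fin n) k)) f = 0 := by
  classical
  set δ := MvPolynomial.mkDerivation k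
    (fun j : Fin n => ∑ i : Fin n, M i j • (MvPolynomial.X i : MvPolynomial (Fin n) k)) with hδ
  obtain ⟨d, K, b, hb⟩ := K101.JordanNil.exists_jordan (Matrix.toLin' M) (by
    obtain ⟨N, hN⟩ := hM
    refine ⟨N, ?_⟩
    rw [← Matrix.toLin'_pow, hN, map_zero])
  let lin : (Fin n → k) →ₗ[k] MvPolynomial (Fin n) k :=
    Fintype.linearCombination k (fun j => (X j : MvPolynomial (Fin n) k))
  have hlin : ∀ v, lin v = ∑ j, v j • X j := fun v => Fintype.linearCombination_apply _ _ _
  have hδlin : ∀ v, δ (lin v) = lin (Matrix.toLin' M v) := by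
    intro v
    rw [hlin, hlin, map_sum, Matrix.toLin'_apply]
    simp only [Derivation.map_smul, hδ, mkDerivation_X, Matrix.mulVec, dotProduct, Finset.smul_sum, smul_smul,
      Finset.sum_smul]
    rw [Finset.sum_comm]
    refine Finset.sum_congr rfl fun i _ => Finset.sum_congr rfl fun j _ => ?_
    rw [mul_comm]
  let linS : (Fin n → k) →ₗ[k] MvPolynomial (Σ i : Fin d, Fin (K i)) k :=
    b.constr k (fun s => (X s : MvPolynomial (Σ i : Fin d, Fin (K i)) k))
  have hlinS : ∀ s, linS (b s) = X s := fun s => b.constr_basis k _ s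
  let Φ : MvPolynomial (Σ i : Fin d, Fin (K i)) k →ₐ[k] MvPolynomial (Fin n) k := aeval (fun s => lin (b s))
  let Ψ : MvPolynomial (Fin n) k →ₐ[k] MvPolynomial (Σ i : Fin d, Fin (K i)) k :=
    aeval (fun j => linS (Pi.single j 1))
  have h1 : ∀ v, Ψ (lin v) = linS v := by
    have : Ψ.toLinearMap ∘ₗ lin = linS := by
      refine LinearMap.pi_ext' fun j => LinearMap.ext_ring ?_
      change Ψ (lin (Pi.single j 1)) = linS (Pi.single j 1)
      rw [hlin, Finset.sum_eq_single j]
      · rw [Pi.single_eq_same, one_smul, aeval_X]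
      · intro i _ hij
        rw [Pi.single_eq_of_ne hij, zero_smul]
      · intro h; exact absurd (Finset.mem_univ j) h
    exact fun v => LinearMap.congr_fun this v
  have h2 : ∀ v, Φ (linS v) = lin v := by
    have : Φ.toLinearMap ∘ₗ linS = lin := by
      refine b.ext fun s => ?_
      change Φ (linS (b s)) = lin (b s)
      rw [hlinS, aeval_X]
    exact fun v => LinearMap.congr_fun this v
  have hΦΨ : ∀ p, Φ (Ψ p) = p := by
    have : Φ.comp Ψ = AlgHom.id k _ := by
      refine MvPolynomial.algHom_ext fun j => ?_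
      change Φ (Ψ (X j)) = X j
      rw [show Ψ (X j) = linS (Pi.single j 1) from aeval_X _ _, h2, hlin, Finset.sum_eq_single j]
      · rw [Pi.single_eq_same, one_smul]
      · intro i _ hij
        rw [Pi.single_eq_of_ne hij, zero_smul]
      · intro h; exact absurd (Finset.mem_univ j) h
    exact fun p => AlgHom.congr_fun this p
  have hΨΦ : ∀ p, Ψ (Φ p) = p := by
    have : Ψ.comp Φ = AlgHom.id k _ := by
      refine MvPolynomial.algHom_ext fun s => ?_
      change Ψ (Φ (X s)) = X s
      rw [show Φ (X s) = lin (b s) from aeval_X _ _, h1, hlinS]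
    exact fun p => AlgHom.congr_fun this p
  have hcomm : ∀ p, Φ (eJ K p) = δ (Φ p) := by
    intro p
    induction p using MvPolynomial.induction_on with
    | C a =>
      rw [← algebraMap_eq, Derivation.map_algebraMap, map_zero, AlgHom.commutes, Derivation.map_algebraMap]
    | add p q hp hq => rw [map_add, map_add, map_add, map_add, hp, hq]
    | mul_X p i hp =>
      rw [Derivation.leibniz, map_mul Φ, Derivation.leibniz]
      simp only [smul_eq_mul, map_add, map_mul, hp]
      congr 2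
      obtain ⟨i, j⟩ := i
      rw [show Φ (X ⟨i, j⟩) = lin (b ⟨i, j⟩) from aeval_X _ _, hδlin, hb, eJ, mkDerivation_X]
      change Φ (ext K i (j + 1)) = _
      rw [ext]
      split_ifs with hj
      · exact aeval_X _ _
      · rw [map_zero, map_zero]
  obtain ⟨S, hS, hSe⟩ := PTriple.fg_ker (ptriple (k := k) K)
  refine ⟨S.map Φ, hS.map _, fun p => ⟨?_, fun hp => ⟨Ψ p, ?_, hΦΨ p⟩⟩⟩
  · rintro ⟨q, hq, rfl⟩
    change δ (Φ q) = 0
    rw [← hcomm, (hSe q).mp hq, map_zero]
  · change Ψ p ∈ S
    rw [hSe]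
    have h3 : Φ (eJ K (Ψ p)) = 0 := by rw [hcomm, hΦΨ]; exact hp
    rw [← hΨΦ (eJ K (Ψ p)), h3, map_zero]

end K101.Weitz
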